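import Groth.Prelude.Def_Coh
import Mathlib.AlgebraicGeometry.Modules.Sheaf
import Mathlib.Topology.Sheaves.SheafCondition.Sites
import Groth.Agent.CechRes.Sheaf

/-!
# Morphisms of modules given on affine opens

* `hom_ext_affine`, `exists_hom_of_affine`, `isIso_of_affine_nbhds`.
-/

set_option autoImplicit false
set_option backward.isDefEq.respectTransparency false
set_option backward.isDefEq.respectTransparency.types false

universe u

open CategoryTheory CategoryTheory.Limits AlgebraicGeometry Opposite TopologicalSpace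
open Groth.Agent.Coherent

namespace Groth.Agent.InjMod14.Kosz

variable {X : Scheme.{u}}

/-- Sections agreeing near every point are equal. -/
theorem sec_ext {M : X.Modules} {U : X.Opens} {z z' : Γ(M, U)}
    (h : ∀ x ∈ U, ∃ (V : X.Opens) (hV : V ≤ U), x ∈ V ∧ resM M hV z = resM M hV z') : z = z' :=
  TopCat.Presheaf.IsSheaf.section_ext M.isSheaf h

/-- Sections agreeing on every affine open inside are equal. -/
theorem sec_ext_affine {M : X.Modules} {U : X.Opens} {z z' : Γ(M, U)}
    (h : ∀ (V : X.affineOpens) (hV : V.1 ≤ U), resM M hV z = resM M hV z') : z = z' :=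
  sec_ext fun x hx => by
    obtain ⟨V, hV, hxV, hVU⟩ := Opens.isBasis_iff_nbhd.mp X.isBasis_affineOpens hx
    exact ⟨V, hVU, hxV, h ⟨V, hV⟩ hVU⟩

theorem hom_ext_affine {F G : X.Modules} (φ ψ : F ⟶ G)
    (h : ∀ (U : X.affineOpens) (s : Γ(F, U.1)), φ.app U.1 s = ψ.app U.1 s) : φ = ψ := by
  refine Scheme.Modules.hom_ext _ _ fun W => ConcreteCategory.hom_ext _ _ fun s => ?_
  refine sec_ext_affine fun V hV => ?_
  rw [← app_resM φ hV s, ← app_resM ψ hV s]
  exact h V _

/-- A compatible family of linear maps on affine opens comes from a morphism. -/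
theorem exists_hom_of_affine (F G : X.Modules) (f : ∀ U : X.affineOpens, Γ(F, U.1) →ₗ[Γ(X, U.1)] Γ(G, U.1))
    (hf : ∀ (U V : X.affineOpens) (h : V.1 ≤ U.1) (s : Γ(F, U.1)), f V (resM F h s) = resM G h (f U s)) :
    ∃ φ : F ⟶ G, ∀ (U : X.affineOpens) (s : Γ(F, U.1)), φ.app U.1 s = f U s := by
  let B : X.affineOpens → X.Opens := fun U => U.1
  have hB : Opens.IsBasis (Set.range B) := by
    convert X.isBasis_affineOpens using 1
    exact Subtype.range_coe
  let G' : TopCat.Sheaf Ab.{u} X.toTopCat := ⟨G.presheaf, G.isSheaf⟩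
  let α : (inducedFunctor B).op ⋙ F.presheaf ⟶ (inducedFunctor B).op ⋙ G'.1 :=
    { app := fun U => AddCommGrpCat.ofHom (f U.unop).toAddMonoidHom
      naturality := fun U V i => by
        refine ConcreteCategory.hom_ext _ _ fun a => ?_
        exact hf U.unop V.unop (leOfHom i.unop.hom) a }
  let β := TopCat.Sheaf.restrictHomEquivHom F.presheaf G' hB α
  have hβ : ∀ (U : X.affineOpens) (s : Γ(F, U.1)), (β.app (op U.1)).hom s = f U s := fun U s => by
    show ((TopCat.Sheaf.restrictHomEquivHom F.presheaf G' hB α).app (op (B U))).hom s = _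
    rw [TopCat.Sheaf.extend_hom_app]
    rfl
  have hres : ∀ {U V : X.Opens} (h : V ≤ U) (s : Γ(F, U)),
      (β.app (op V)).hom (resM F h s) = resM G h ((β.app (op U)).hom s) :=
    fun h s => ConcreteCategory.congr_hom (β.naturality (homOfLE h).op) s
  let ap : ∀ W : X.Opens, Γ(F, W) → Γ(G, W) := fun W m => (β.app (op W)).hom m
  have hap : ∀ (W : X.Opens) (r : Γ(X, W)) (m : Γ(F, W)), ap W (r • m) = r • ap W m := fun W r m => by
    refine sec_ext_affine (M := G) fun V hV => ?_
    have h1 : resM G hV (ap W (r • m)) = ap V.1 (resM F hV (r • m)) := (hres hV (r • m)).symm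
    have h2 : resM G hV (ap W m) = ap V.1 (resM F hV m) := (hres hV m).symm
    rw [h1, resM_smul, resM_smul, h2]
    show (β.app (op V.1)).hom _ = _ • (β.app (op V.1)).hom _
    exact (hβ V _).trans ((map_smul (f V) _ _).trans (congrArg _ (hβ V _).symm))
  exact ⟨⟨PresheafOfModules.homMk β fun ⟨W⟩ r m => hap W r m⟩, fun U s => hβ U s⟩

/-- A morphism bijective on arbitrarily small affine opens is an isomorphism. -/
theorem isIso_of_affine_nbhds {F G : X.Modules} (φ : F ⟶ G)
    (h : ∀ (W : X.Opens) (x : X), x ∈ W → ∃ V : X.affineOpens, x ∈ V.1 ∧ V.1 ≤ W ∧ Function.Bijective (φ.app V.1)) :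
    IsIso φ := by
  rw [Scheme.Modules.Hom.isIso_iff_isIso_app]
  intro U
  refine (ConcreteCategory.isIso_iff_bijective _).2 ⟨fun a b hab => ?_, fun b => ?_⟩
  · refine sec_ext fun x hx => ?_
    obtain ⟨V, hxV, hVU, hb⟩ := h U x hx
    exact ⟨V.1, hVU, hxV, hb.1 (by rw [app_resM, app_resM, hab])⟩
  · choose V hxV hVU hb using h U
    let 𝒱 : ↥U → X.Opens := fun x => (V x.1 x.2).1
    have hloc : ∀ x : ↥U, ∃ a : Γ(F, 𝒱 x), φ.app _ a = resM G (hVU x.1 x.2) b := fun x => (hb x.1 x.2).2 _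
    choose a ha using hloc
    have hcompat : TopCat.Presheaf.IsCompatible F.presheaf 𝒱 a := fun x y => by
      show resM F inf_le_left (a x) = resM F inf_le_right (a y)
      refine sec_ext fun z hz => ?_
      obtain ⟨V', hzV', hV', hb'⟩ := h _ z hz
      refine ⟨V'.1, hV', hzV', hb'.1 ?_⟩
      rw [resM_resM, resM_resM, app_resM, app_resM, ha, ha, resM_resM, resM_resM]
    obtain ⟨s, hs, -⟩ := TopCat.Sheaf.existsUnique_gluing' ⟨F.presheaf, F.isSheaf⟩ 𝒱 U
      (fun x => homOfLE (hVU x.1 x.2)) (fun z hz => Opens.mem_iSup.2 ⟨⟨z, hz⟩, hxV z hz⟩) a hcompat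
    refine ⟨s, sec_ext fun x hx => ⟨𝒱 ⟨x, hx⟩, hVU x hx, hxV x hx, ?_⟩⟩
    rw [← app_resM]
    exact (congrArg _ (hs ⟨x, hx⟩)).trans (ha ⟨x, hx⟩)

end Groth.Agent.InjMod14.Kosz
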