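import Groth.Agent.InjMod14.Kosz.TwistedChart
import Groth.Agent.Nrm16Lib.RegImm
import Groth.Agent.Misc15.CMCI
import Groth.Agent.CAlgH.RegImmStalk
import Groth.Agent.Coherent.FreeSections

/-!
# Regular generators of a complete intersection near a point

* `isWeaklyRegular_of_le_height`: generators of an ideal of large height in a Cohen–Macaulay local ring;
* `exists_colon`: a sequence regular in a local ring is regular near the point;
* `exists_basicOpen_regular`, `isGen_oneSec`.
-/

set_option autoImplicit false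
set_option backward.isDefEq.respectTransparency false
set_option backward.isDefEq.respectTransparency.types false

universe u

open CategoryTheory CategoryTheory.Limits AlgebraicGeometry Opposite TopologicalSpace
open Groth.Agent Groth.Agent.Coherent Groth.Agent.PicLib Groth.Agent.AmpleLib

namespace Groth.Agent.InjMod14.Kosz

open IsLocalRing in
/-- Generators of an ideal of height at least their number form a regular sequence. -/
theorem isWeaklyRegular_of_le_height {R : Type u} [CommRing R] [LocCoh.IsCohenMacaulayLocalRing R] {r : ℕ}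
    (g : Fin r → R) (hg : ∀ i, g i ∈ maximalIdeal R) (hh : (r : ℕ∞) ≤ (Ideal.span (Set.range g)).height) :
    RingTheory.Sequence.IsWeaklyRegular R (List.ofFn g) := by
  classical
  have hd := Misc15.ringKrullDim_quotient_add_le_of_le_height _ r hh
  let d : Finset (Fin r) → WithBot ℕ∞ := fun s => Module.supportDim R (R ⧸ Ideal.span (g '' (s : Set (Fin r))))
  have e : ∀ (s : Finset (Fin r)) (i : Fin r),
      Nonempty (QuotSMulTop (g i) (R ⧸ Ideal.span (g '' (s : Set (Fin r)))) ≃ₗ[R]
        R ⧸ Ideal.span (g '' (insert i s : Finset (Fin r)))) :=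
    fun s i => ⟨(CAlgH3.quotSMulTopQuotient _ _).trans (Submodule.quotEquivOfEq _ _ (by
      rw [Finset.coe_insert, Set.image_insert_eq, Ideal.span_insert, sup_comm]))⟩
  have step : ∀ (s : Finset (Fin r)) (i : Fin r), d s ≤ d (insert i s) + 1 := fun s i => by
    obtain ⟨e⟩ := e s i
    change _ ≤ Module.supportDim R (R ⧸ Ideal.span (g '' (insert i s : Finset (Fin r)))) + 1
    rw [← Module.supportDim_eq_of_equiv e]
    exact Module.supportDim_le_supportDim_quotSMulTop_succ_of_mem_jacobson ((maximalIdeal_le_jacobson _) (hg i))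
  have tel : ∀ (u t : Finset (Fin r)), d t ≤ d (t ∪ u) + (u.card : ℕ) := by
    intro u
    induction u using Finset.induction with
    | empty => simp
    | insert a u ha ih =>
      intro t
      refine (ih t).trans ((add_le_add (step (t ∪ u) a) le_rfl).trans ?_)
      rw [Finset.card_insert_of_notMem ha, Finset.union_insert, Nat.cast_add, Nat.cast_one, add_assoc,
        add_comm (1 : WithBot ℕ∞)]
  have hempty : d ∅ = ringKrullDim R := by
    change Module.supportDim R _ = _
    rw [Module.supportDim_quotient_eq_ringKrullDim, Finset.coe_empty, Set.image_empty, Ideal.span_empty,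
      ringKrullDim_eq_of_ringEquiv (RingEquiv.quotientBot R)]
  have huniv : d Finset.univ = ringKrullDim (R ⧸ Ideal.span (Set.range g)) := by
    change Module.supportDim R _ = _
    rw [Module.supportDim_quotient_eq_ringKrullDim, Finset.coe_univ, Set.image_univ]
  have hu : ∀ t : Finset (Fin r), d t + (t.card : ℕ) ≤ ringKrullDim R := by
    intro t
    refine le_trans ?_ hd
    have := tel tᶜ t
    rw [Finset.union_compl, huniv] at this
    refine (add_le_add this le_rfl).trans (le_of_eq ?_)
    rw [add_assoc, ← Nat.cast_add, Finset.card_compl_add_card, Fintype.card_fin]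
  have reg : ∀ (s : Finset (Fin r)) (a : Fin r), a ∉ s →
      LocCoh.IsCohenMacaulayModule R (R ⧸ Ideal.span (g '' (s : Set (Fin r)))) →
      IsSMulRegular (R ⧸ Ideal.span (g '' (s : Set (Fin r)))) (g a) := fun s a ha ih => by
    obtain ⟨e⟩ := e s a
    refine CAlgH3.isSMulRegular_of_supportDim_quot ih ?_
    rw [Module.supportDim_eq_of_equiv e]
    change d (insert a s) + 1 ≤ d s
    have h1 := tel s ∅
    rw [Finset.empty_union, hempty] at h1
    have h2 := (hu (insert a s)).trans h1
    rw [Finset.card_insert_of_notMem ha, Nat.cast_add, Nat.cast_one, ← add_assoc, add_right_comm] at h2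
    exact Misc15.le_of_add_natCast_le _ h2
  have main : ∀ s : Finset (Fin r), LocCoh.IsCohenMacaulayModule R (R ⧸ Ideal.span (g '' (s : Set (Fin r)))) := by
    intro s
    induction s using Finset.induction with
    | empty =>
      rw [Finset.coe_empty, Set.image_empty, Ideal.span_empty]
      exact (CAlgH3.isCohenMacaulayModule_congr (Submodule.quotEquivOfEqBot ⊥ rfl)).2
        ((CAlgH3.isCohenMacaulayLocalRing_iff R).1 ‹_›)
    | insert a s ha ih =>
      obtain ⟨e⟩ := e s a
      exact (CAlgH3.isCohenMacaulayModule_congr e).1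
        ((CAlgH3.isCohenMacaulayModule_quotSMulTop_iff (hg a) (reg s a ha ih)).2 ih)
  rw [Nrm16Lib.isWeaklyRegular_iff_forall_mem]
  intro i hi x hx
  simp only [List.length_ofFn] at hi
  have hspan : Ideal.ofList ((List.ofFn g).take i) = Ideal.span (g '' ((Finset.Iio ⟨i, hi⟩ : Finset (Fin r)) : Set (Fin r))) := by
    rw [Ideal.ofList, Finset.coe_Iio]
    refine congrArg Ideal.span (Set.ext fun a => ?_)
    simp only [Set.mem_ofPred_eq, List.mem_take_iff_getElem, List.getElem_ofFn, List.length_ofFn, Set.mem_image,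
      Set.mem_Iio]
    constructor
    · rintro ⟨j, hj, rfl⟩
      exact ⟨⟨j, by omega⟩, show j < i by omega, rfl⟩
    · rintro ⟨j, hj, rfl⟩
      exact ⟨j.1, by have : j.1 < i := hj; omega, rfl⟩
  rw [hspan, List.getElem_ofFn] at hx
  rw [hspan]
  refine (Submodule.Quotient.mk_eq_zero _).1 (reg _ ⟨i, hi⟩ (by simp) (main _) ?_)
  show g ⟨i, hi⟩ • Submodule.Quotient.mk x = g ⟨i, hi⟩ • 0
  rw [smul_zero, ← Submodule.Quotient.mk_smul, Submodule.Quotient.mk_eq_zero]
  exact hx

/-- A sequence regular in the local ring is regular near the point. -/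
theorem exists_colon {R : Type u} [CommRing R] [IsNoetherianRing R] (p : Ideal R) [p.IsPrime] (A : Type u)
    [CommRing A] [Algebra R A] [IsLocalization.AtPrime A p] {rs : List R}
    (hreg : RingTheory.Sequence.IsWeaklyRegular A (rs.map (algebraMap R A))) :
    ∃ g : R, g ∉ p ∧ ∀ (i : ℕ) (hi : i < rs.length) (x : R),
      rs[i] * x ∈ Ideal.ofList (rs.take i) → g * x ∈ Ideal.ofList (rs.take i) := by
  classical
  rw [Nrm16Lib.isWeaklyRegular_iff_forall_mem] at hreg
  have key : ∀ i : Fin rs.length, ∃ g : R, g ∉ p ∧ ∀ x : R,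
      rs[i.1] * x ∈ Ideal.ofList (rs.take i) → g * x ∈ Ideal.ofList (rs.take i) := by
    intro i
    let J := Ideal.ofList (rs.take i)
    let K : Ideal R := Submodule.comap (LinearMap.mulLeft R rs[i.1]) J
    obtain ⟨s, hs⟩ := (isNoetherianRing_iff_ideal_fg R).1 inferInstance K
    have hx : ∀ x : s, ∃ g : R, g ∉ p ∧ g * x ∈ J := by
      intro x
      have hxK : rs[i.1] * (x : R) ∈ J := show (x : R) ∈ K from hs ▸ Submodule.subset_span x.2
      have h1 := hreg i.1 (by simp) (algebraMap R A x) (by
        simp only [List.getElem_map, ← List.map_take, ← Ideal.map_ofList, ← map_mul]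
        exact Ideal.mem_map_of_mem _ hxK)
      simp only [← List.map_take, ← Ideal.map_ofList] at h1
      rw [IsLocalization.algebraMap_mem_map_algebraMap_iff p.primeCompl] at h1
      obtain ⟨g, hg, hgx⟩ := h1
      exact ⟨g, hg, hgx⟩
    choose g hg hgx using hx
    refine ⟨∏ x, g x, fun hmem => ?_, fun x hx => ?_⟩
    · obtain ⟨x, -, hx⟩ := Ideal.IsPrime.prod_mem_iff.1 hmem
      exact hg x hx
    · have : K ≤ Submodule.comap (LinearMap.mulLeft R (∏ x, g x)) J := by
        rw [← hs]
        refine Ideal.span_le.2 fun y hy => ?_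
        show (∏ x, g x) * y ∈ J
        rw [← Finset.mul_prod_erase Finset.univ g (Finset.mem_univ (⟨y, hy⟩ : s)), mul_right_comm]
        exact Ideal.mul_mem_right _ _ (hgx ⟨y, hy⟩)
      exact this hx
  choose g hg hgx using key
  refine ⟨∏ i, g i, fun hmem => ?_, fun i hi x hx => ?_⟩
  · obtain ⟨i, -, hi⟩ := Ideal.IsPrime.prod_mem_iff.1 hmem
    exact hg i hi
  · rw [← Finset.mul_prod_erase Finset.univ g (Finset.mem_univ (⟨i, hi⟩ : Fin rs.length)),
      mul_right_comm]
    exact Ideal.mul_mem_right _ _ (hgx ⟨i, hi⟩ x hx)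

variable {X Y : Scheme.{u}}

/-- Regular generators on a basic open around a point of a complete intersection. -/
theorem exists_basicOpen_regular [IsLocallyNoetherian X]
    (hCM : ∀ x : X, LocCoh.IsCohenMacaulayLocalRing (X.presheaf.stalk x)) (i : Y ⟶ X) [IsClosedImmersion i]
    (y : Y) {c : ℕ} (hht : (c : ℕ∞) ≤ (RingHom.ker (i.stalkMap y).hom).height) (U : X.affineOpens)
    (hy : i.base y ∈ U.1) (g : Fin c → Γ(X, U.1)) (hg : i.ker.ideal U = Ideal.span (Set.range g)) :
    ∃ V : X.affineOpens, i.base y ∈ V.1 ∧ ∃ f : Fin c → Γ(X, V.1),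
      i.ker.ideal V = Ideal.span (Set.range f) ∧ RingTheory.Sequence.IsWeaklyRegular Γ(X, V.1) (List.ofFn f) := by
  haveI := IsLocallyNoetherian.component_noetherian U
  haveI := hCM (i y)
  letI := X.presheaf.algebra_section_stalk ⟨i y, hy⟩
  haveI := U.2.isLocalization_stalk ⟨i y, hy⟩
  let p := (U.2.primeIdealOf ⟨i y, hy⟩).asIdeal
  have hker : RingHom.ker (i.app U.1).hom = Ideal.span (Set.range g) :=
    (Scheme.Hom.ker_apply i U).symm.trans hg
  have hst : RingHom.ker (i.stalkMap y).hom =
      Ideal.span (Set.range fun k => algebraMap Γ(X, U.1) (X.presheaf.stalk (i y)) (g k)) := by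
    rw [CAlgH.RegImmStalk.ker_stalkMap_eq i y U.2 hy, hker, Ideal.map_span, ← Set.range_comp]
    rfl
  have hmax : ∀ k, algebraMap Γ(X, U.1) (X.presheaf.stalk (i y)) (g k) ∈
      IsLocalRing.maximalIdeal (X.presheaf.stalk (i y)) := fun k =>
    IsLocalRing.le_maximalIdeal (RingHom.ker_ne_top (i.stalkMap y).hom) (hst ▸ Ideal.subset_span ⟨k, rfl⟩)
  have hreg := isWeaklyRegular_of_le_height _ hmax (hst ▸ hht)
  have hp : ∀ r ∈ List.ofFn g, r ∈ p := fun r hr => by
    obtain ⟨k, rfl⟩ := List.mem_ofFn.1 hr
    exact (IsLocalization.AtPrime.to_map_mem_maximal_iff (X.presheaf.stalk (i y)) p (g k)).1 (hmax k)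
  obtain ⟨h, hh, hcolon⟩ := exists_colon p (X.presheaf.stalk (i y)) (rs := List.ofFn g)
    (by rw [List.map_ofFn]; exact hreg)
  letI := (X.presheaf.map (homOfLE (X.basicOpen_le h)).op).hom.toAlgebra
  haveI := U.2.isLocalization_basicOpen h
  have hreg' := (Nrm16Lib.isRegular_away p hp hh hcolon Γ(X, X.basicOpen h)).toIsWeaklyRegular
  rw [List.map_ofFn] at hreg'
  refine ⟨⟨X.basicOpen h, U.2.basicOpen h⟩, ?_, fun k => algebraMap Γ(X, U.1) Γ(X, X.basicOpen h) (g k), ?_, hreg'⟩
  · have : U.2.primeIdealOf ⟨i y, hy⟩ ∈ PrimeSpectrum.basicOpen h := hh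
    rw [← U.2.fromSpec_preimage_basicOpen, Scheme.Hom.mem_preimage, U.2.fromSpec_primeIdealOf] at this
    exact this
  · rw [← i.ker.map_ideal (U := ⟨X.basicOpen h, U.2.basicOpen h⟩) (V := U) (X.basicOpen_le h), hg, Ideal.map_span,
      ← Set.range_comp]
    rfl

theorem isWeaklyRegular_map_bijective {R S : Type u} [CommRing R] [CommRing S] (e : R →+* S)
    (he : Function.Bijective e) {n : ℕ} (f : Fin n → R) (h : RingTheory.Sequence.IsWeaklyRegular R (List.ofFn f)) :
    RingTheory.Sequence.IsWeaklyRegular S (List.ofFn fun k => e (f k)) := by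
  letI := e.toAlgebra
  haveI : Module.Flat R S := RingHom.flat_algebraMap_iff.1 (RingHom.Flat.of_bijective he)
  have := h.of_flat (S := S)
  rwa [List.map_ofFn] at this

/-- One generates the structure sheaf. -/
theorem isGen_oneSec (U : X.Opens) : IsGen (Coh.structureModule X) U (oneSec U) := by
  intro V hV
  have h : ∀ r : Γ(X, V), r • resM (Coh.structureModule X) hV (oneSec U) = r := fun r => by
    show r * res hV (1 : Γ(X, U)) = r
    rw [map_one, mul_one]
  exact ⟨fun a b hab => (h a).symm.trans (hab.trans (h b)), fun x => ⟨x, h x⟩⟩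

end Groth.Agent.InjMod14.Kosz
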