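import Groth.Agent.InjMod14.Kosz.Func
import Groth.Agent.AmpleLib.Twist
import Groth.Prelude.Def_KoszTw

/-!
# Koszul complexes of a twisted cosection, on affine opens

* `dLin`: the Koszul differential of a linear form on exterior powers; `rule_dLin`;
* `twEquiv`, `powEquiv`: twisting by a generator; `exists_coef`: the relation between the two forms;
* `kernelSubobject_eq_of_sections`, `imageSubobject_le_of_sections`.
-/

set_option autoImplicit false
set_option backward.isDefEq.respectTransparency false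
set_option backward.isDefEq.respectTransparency.types false

universe u

open CategoryTheory CategoryTheory.Limits AlgebraicGeometry Opposite TopologicalSpace exteriorPower
open Groth.Agent Groth.Agent.Coherent Groth.Agent.PicLib Groth.Agent.AmpleLib

namespace Groth.Agent.InjMod14.Kosz

section Ring

variable {R : Type u} [CommRing R] {M N : Type u} [AddCommGroup M] [Module R M] [AddCommGroup N] [Module R N]

/-- The Koszul differential of a linear form. -/
noncomputable def dLin (φ : M →ₗ[R] R) (p : ℕ) : ↥(⋀[R]^(p + 1) M) →ₗ[R] ↥(⋀[R]^p M) :=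
  (Disc12.Koszul.D φ).restrict fun _ h => Disc12.Koszul.D_mem φ p h

theorem dLin_ιMulti (φ : M →ₗ[R] R) (p : ℕ) (v : Fin (p + 1) → M) :
    dLin φ p (ιMulti R (p + 1) v) = KoszSh.dGen φ p v :=
  Subtype.ext (D_ιMulti φ p v)

theorem dGen_smul_form (φ : M →ₗ[R] R) (c : R) (p : ℕ) (v : Fin (p + 1) → M) :
    KoszSh.dGen (c • φ) p v = c • KoszSh.dGen φ p v := by
  simp only [KoszSh.dGen, Finset.smul_sum, smul_smul, LinearMap.smul_apply, smul_eq_mul]
  exact Finset.sum_congr rfl fun i _ => by ring_nf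

theorem dLin_smul_form (φ : M →ₗ[R] R) (c : R) (p : ℕ) : dLin (c • φ) p = c • dLin φ p :=
  LinearMap.ext_on_range (exteriorPower.ιMulti_span _ _ _) fun v => by
    rw [LinearMap.smul_apply, dLin_ιMulti, dLin_ιMulti, dGen_smul_form]

theorem map_dLin (f : M →ₗ[R] N) (φ : M →ₗ[R] R) (ψ : N →ₗ[R] R) (h : ∀ m, ψ (f m) = φ m) (p : ℕ)
    (w : ↥(⋀[R]^(p + 1) M)) :
    dLin ψ p (exteriorPower.map (p + 1) f w) = exteriorPower.map p f (dLin φ p w) := by
  have : dLin ψ p ∘ₗ exteriorPower.map (p + 1) f = exteriorPower.map p f ∘ₗ dLin φ p :=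
    LinearMap.ext_on_range (exteriorPower.ιMulti_span _ _ _) fun v => by
      rw [LinearMap.comp_apply, LinearMap.comp_apply, exteriorPower.map_apply_ιMulti, dLin_ιMulti, dLin_ιMulti,
        map_dGen f φ ψ h]
      rfl
  exact LinearMap.congr_fun this w

/-- A non-zero-divisor acts injectively on the exterior powers of a free module. -/
theorem smul_eq_zero_free {ι : Type} [Fintype ι] (b : Module.Basis ι R M) {c : R} (hc : ∀ r : R, c * r = 0 → r = 0)
    (p : ℕ) (w : ↥(⋀[R]^p M)) (h : c • w = 0) : w = 0 := by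
  classical
  letI : LinearOrder ι := LinearOrder.lift' (Fintype.equivFin ι) (Fintype.equivFin ι).injective
  refine (b.exteriorPower p).repr.injective (Finsupp.ext fun j => ?_)
  rw [map_zero, Finsupp.zero_apply]
  refine hc _ ?_
  rw [← smul_eq_mul, ← Finsupp.smul_apply, ← map_smul, h, map_zero, Finsupp.zero_apply]

end Ring

variable {X : Scheme.{u}}

theorem rule_dLin {E : X.Modules} {s : E ⟶ Coh.structureModule X} (C : KoszSh.Cx E s) (p : ℕ) (U : X.affineOpens)
    (w : ↥(⋀[Γ(X, U.1)]^(p + 1) Γ(E, U.1))) :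
    (C.K.d (p + 1) p).app U.1 ((C.loc (p + 1) U).symm w) = (C.loc p U).symm (dLin (KoszSh.secForm s U.1) p w) := by
  have : dHom C p U.1 ∘ₗ (C.loc (p + 1) U).symm.toLinearMap =
      (C.loc p U).symm.toLinearMap ∘ₗ dLin (KoszSh.secForm s U.1) p :=
    LinearMap.ext_on_range (exteriorPower.ιMulti_span _ _ _) fun v => by
      show (C.K.d (p + 1) p).app U.1 _ = _
      rw [LinearMap.comp_apply, dLin_ιMulti, LinearEquiv.coe_coe, LinearEquiv.coe_coe, C.rule]
  exact LinearMap.congr_fun this w

/-- A finite locally free module and an invertible module have a basis and a generator near every point. -/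
theorem exists_basis_gen {F L : X.Modules} (hF : FlatMod.IsFinLocFree F) (hL : PicF.IsInvertible L) {W : X.Opens}
    {x : X} (hx : x ∈ W) :
    ∃ V : X.affineOpens, x ∈ V.1 ∧ V.1 ≤ W ∧
      (∃ l : Γ(L, V.1), IsGen L V.1 l) ∧
      ∃ n : ℕ, Nonempty (Module.Basis (Fin n) Γ(X, V.1) Γ(F, V.1)) := by
  classical
  obtain ⟨U, n, e, hxU, he⟩ := exists_isBasisOn hF x
  obtain ⟨U', hxU', g, hg⟩ := exists_isGen hL x
  obtain ⟨V, hV, hxV, hVU⟩ := Opens.isBasis_iff_nbhd.mp X.isBasis_affineOpens
    (show x ∈ W ⊓ U ⊓ U' from ⟨⟨hx, hxU⟩, hxU'⟩)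
  have h1 : V ≤ U := hVU.trans (inf_le_left.trans inf_le_right)
  refine ⟨⟨V, hV⟩, hxV, hVU.trans (inf_le_left.trans inf_le_left), ⟨_, hg.restrict (hVU.trans inf_le_right)⟩, n,
    ⟨(Module.Basis.ofEquivFun (LinearEquiv.ofBijective (R := Γ(X, V))
      (Fintype.linearCombination Γ(X, V) fun i => resM F h1 (e i)) ?_).symm).reindex Equiv.ulift⟩⟩
  convert he h1 using 1
  funext c
  rw [Fintype.linearCombination_apply]

/-- Sections of `F ⊗ L` where `L` has a generator. -/
noncomputable def twEquiv (F : X.Modules) {L : X.Modules} {V : X.Opens} {l : Γ(L, V)} (hl : IsGen L V l) :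
    Γ(F, V) ≃ₗ[Γ(X, V)] Γ(CohB1.tensorMod F L, V) :=
  LinearEquiv.ofBijective (R := Γ(X, V))
    { toFun := fun m => SecTwist.tmul F L V m l
      map_add' := fun a b => tmul_add_left a b l
      map_smul' := fun r a => by
        show tmul (r • a) l = r • tmul a l
        exact tmul_smul_left r a l }
    (by
      have := bijective_tmul_gen (M := F) hl V le_rfl
      simp only [resM_self] at this
      exact this)

theorem twEquiv_apply {F L : X.Modules} {V : X.Opens} {l : Γ(L, V)} (hl : IsGen L V l) (m : Γ(F, V)) :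
    twEquiv F hl m = SecTwist.tmul F L V m l := rfl

theorem tprod_const_eq_powSec {L : X.Modules} {V : X.Opens} (l : Γ(L, V)) :
    ∀ q : ℕ, KoszTw.tprod L q V (fun _ => l) = powSec l q
  | 0 => rfl
  | q + 1 => by
    show SecTwist.tmul _ _ V (KoszTw.tprod L q V fun _ => l) l = _
    rw [tprod_const_eq_powSec l q]
    rfl

/-- The exterior power of `twEquiv`. -/
noncomputable def powEquiv (F : X.Modules) {L : X.Modules} {V : X.Opens} {l : Γ(L, V)} (hl : IsGen L V l) (p : ℕ) :
    ↥(⋀[Γ(X, V)]^p Γ(F, V)) ≃ₗ[Γ(X, V)] ↥(⋀[Γ(X, V)]^p Γ(CohB1.tensorMod F L, V)) :=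
  LinearEquiv.ofBijective (exteriorPower.map p (twEquiv F hl).toLinearMap) <| by
    refine Function.bijective_iff_has_inverse.2
      ⟨exteriorPower.map p (twEquiv F hl).symm.toLinearMap, fun x => ?_, fun x => ?_⟩
    · rw [← LinearMap.comp_apply, ← exteriorPower.map_comp]
      simp [exteriorPower.map_id]
    · rw [← LinearMap.comp_apply, ← exteriorPower.map_comp]
      simp [exteriorPower.map_id]

variable {F L : X.Modules} {s : F ⟶ Coh.structureModule X} {lam : Coh.structureModule X ⟶ L}
  {t : CohB1.tensorMod F L ⟶ Coh.structureModule X}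

theorem lam_app_smul {V : X.Opens} {l : Γ(L, V)} (hl : IsGen L V l) :
    ∃ c : Γ(X, V), (∀ r : Γ(X, V), lam.app V r = (r * c) • l) ∧ (Mono lam → ∀ r : Γ(X, V), c * r = 0 → r = 0) := by
  have h1 : ∀ r : Γ(X, V), lam.app V r = r • lam.app V (oneSec V) := fun r => by
    conv_lhs => rw [show (r : Γ(Coh.structureModule X, V)) = r • oneSec V from (mul_one r).symm]
    exact Scheme.Modules.Hom.app_smul lam r (oneSec V)
  refine ⟨hl.coef le_rfl (lam.app V (oneSec V)), fun r => ?_, fun hm r hr => ?_⟩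
  · rw [h1, mul_smul]
    congr 1
    simpa only [resM_self] using (hl.coef_spec le_rfl (lam.app V (oneSec V))).symm
  · haveI : PreservesFiniteLimits (CechRes.secF (X := X) V) :=
      preservesFiniteLimits_of_preservesFiniteLimitsOfSize _ fun J _ _ => inferInstance
    haveI : Mono ((CechRes.secF V).map lam) := inferInstance
    refine (AddCommGrpCat.mono_iff_injective ((CechRes.secF V).map lam)).1 inferInstance ?_
    show lam.app V r = lam.app V 0
    rw [map_zero, h1]
    rw [show lam.app V (oneSec V) = hl.coef le_rfl (lam.app V (oneSec V)) • l by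
      simpa only [resM_self] using (hl.coef_spec le_rfl (lam.app V (oneSec V))).symm]
    rw [smul_smul, mul_comm, hr, zero_smul]

/-- The relation between the two linear forms in a generator. -/
theorem exists_coef (htri : KoszTw.TwistTriangle s lam t) {V : X.Opens} {l : Γ(L, V)} (hl : IsGen L V l) :
    ∃ c : Γ(X, V), (∀ r : Γ(X, V), lam.app V r = (r * c) • l) ∧
      (Mono lam → ∀ r : Γ(X, V), c * r = 0 → r = 0) ∧
      KoszSh.secForm s V = c • ((KoszSh.secForm t V) ∘ₗ (twEquiv F hl).toLinearMap) := by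
  obtain ⟨c, hc, hc'⟩ := lam_app_smul (lam := lam) hl
  refine ⟨c, hc, hc', LinearMap.ext fun f => ?_⟩
  have := htri V f l
  rw [hc] at this
  refine (hl V le_rfl).1 ?_
  simp only [resM_self, LinearMap.smul_apply, LinearMap.comp_apply, smul_eq_mul]
  refine this.symm.trans ?_
  rw [mul_comm]
  rfl

/-- The differential of the twisted complex in a generator. -/
theorem rule_twist (D : KoszSh.Cx (CohB1.tensorMod F L) t) {V : X.affineOpens} {l : Γ(L, V.1)} (hl : IsGen L V.1 l)
    (p : ℕ) (w : ↥(⋀[Γ(X, V.1)]^(p + 1) Γ(F, V.1))) :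
    (D.K.d (p + 1) p).app V.1 ((D.loc (p + 1) V).symm (powEquiv F hl (p + 1) w)) =
      (D.loc p V).symm (powEquiv F hl p (dLin ((KoszSh.secForm t V.1) ∘ₗ (twEquiv F hl).toLinearMap) p w)) := by
  rw [rule_dLin]
  exact congrArg _ (map_dLin (twEquiv F hl).toLinearMap _ _ (fun _ => rfl) p w)

/-- The identification on the image of a generator. -/
theorem decData_powEquiv {C : KoszSh.Cx F s} {D : KoszSh.Cx (CohB1.tensorMod F L) t} {q : ℕ}
    (θ : KoszTw.CxDecData C D q) {V : X.affineOpens} {l : Γ(L, V.1)} (hl : IsGen L V.1 l)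
    (w : ↥(⋀[Γ(X, V.1)]^q Γ(F, V.1))) :
    θ.iso.hom.app V.1 ((D.loc q V).symm (powEquiv F hl q w)) = tmul ((C.loc q V).symm w) (powSec l q) := by
  have hw : w ∈ Submodule.span Γ(X, V.1) (Set.range (ιMulti Γ(X, V.1) q (M := Γ(F, V.1)))) := by
    rw [exteriorPower.ιMulti_span]; exact Submodule.mem_top
  induction hw using Submodule.span_induction with
  | mem x hx =>
    obtain ⟨e, rfl⟩ := hx
    have := θ.rule V e fun _ => l
    rw [tprod_const_eq_powSec] at this
    refine Eq.trans (congrArg (fun z => θ.iso.hom.app V.1 ((D.loc q V).symm z)) ?_) this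
    exact exteriorPower.map_apply_ιMulti _ e
  | zero => rw [map_zero, map_zero, map_zero, map_zero, tmul_zero_left]
  | add x y _ _ hx hy => rw [map_add, map_add, map_add, map_add, hx, hy, tmul_add_left]
  | smul r x _ hx => rw [map_smul, map_smul, Scheme.Modules.Hom.app_smul, map_smul, hx, tmul_smul_left]

/-- Kernels agree when they agree on sections over small affine opens. -/
theorem kernelSubobject_eq_of_sections {P A B : X.Modules} (a : P ⟶ A) (b : P ⟶ B)
    (h : ∀ (W : X.Opens) (x : X), x ∈ W → ∃ V : X.affineOpens, x ∈ V.1 ∧ V.1 ≤ W ∧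
      ∀ z : Γ(P, V.1), a.app V.1 z = 0 ↔ b.app V.1 z = 0) :
    kernelSubobject a = kernelSubobject b := by
  have key : ∀ {A B : X.Modules} (a : P ⟶ A) (b : P ⟶ B), (∀ (W : X.Opens) (x : X), x ∈ W → ∃ V : X.affineOpens,
      x ∈ V.1 ∧ V.1 ≤ W ∧ ∀ z : Γ(P, V.1), a.app V.1 z = 0 → b.app V.1 z = 0) →
      kernelSubobject a ≤ kernelSubobject b := by
    intro A B a b h
    refine le_kernelSubobject _ _ (Scheme.Modules.hom_ext _ _ fun W => ConcreteCategory.hom_ext _ _ fun y => ?_)
    refine sec_ext fun x hx => ?_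
    obtain ⟨V, hxV, hVW, hV⟩ := h W x hx
    refine ⟨V.1, hVW, hxV, ?_⟩
    show resM B hVW (b.app W ((kernelSubobject a).arrow.app W y)) = resM B hVW 0
    rw [map_zero, ← app_resM]
    refine hV _ ?_
    have e : a.app W ((kernelSubobject a).arrow.app W y) = 0 :=
      ConcreteCategory.congr_hom (congrArg (fun φ => φ.app W) (kernelSubobject_arrow_comp a)) y
    rw [app_resM, e, map_zero]
  refine le_antisymm (key a b fun W x hx => ?_) (key b a fun W x hx => ?_)
  · obtain ⟨V, h1, h2, h3⟩ := h W x hx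
    exact ⟨V, h1, h2, fun z => (h3 z).1⟩
  · obtain ⟨V, h1, h2, h3⟩ := h W x hx
    exact ⟨V, h1, h2, fun z => (h3 z).2⟩

/-- Image inclusion when it holds on sections over small affine opens. -/
theorem imageSubobject_le_of_sections {P P' A : X.Modules} (a : P ⟶ A) (b : P' ⟶ A)
    (h : ∀ (W : X.Opens) (x : X), x ∈ W → ∃ V : X.affineOpens, x ∈ V.1 ∧ V.1 ≤ W ∧
      ∀ z : Γ(P, V.1), ∃ z' : Γ(P', V.1), b.app V.1 z' = a.app V.1 z) :
    imageSubobject a ≤ imageSubobject b := by
  have hz : a ≫ cokernel.π (imageSubobject b).arrow = 0 := by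
    refine Scheme.Modules.hom_ext _ _ fun W => ConcreteCategory.hom_ext _ _ fun y => ?_
    refine sec_ext fun x hx => ?_
    obtain ⟨V, hxV, hVW, hV⟩ := h W x hx
    refine ⟨V.1, hVW, hxV, ?_⟩
    show resM _ hVW ((cokernel.π (imageSubobject b).arrow).app W (a.app W y)) = resM _ hVW 0
    rw [map_zero, ← app_resM, ← app_resM]
    obtain ⟨z', hz'⟩ := hV (resM P hVW y)
    rw [← hz', ← CategoryTheory.comp_apply, ← Scheme.Modules.Hom.comp_app]
    have : b ≫ cokernel.π (imageSubobject b).arrow = 0 := by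
      refine (congrArg (· ≫ cokernel.π (imageSubobject b).arrow) (imageSubobject_arrow_comp b).symm).trans ?_
      exact (Category.assoc _ _ _).trans ((congrArg (_ ≫ ·) (cokernel.condition _)).trans Limits.comp_zero)
    rw [this]
    rfl
  exact imageSubobject_le a (Abelian.monoLift (imageSubobject b).arrow a hz) (Abelian.monoLift_comp _ _ _)

end Groth.Agent.InjMod14.Kosz
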