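import Groth.Prelude.Def_KoszulSh
import Groth.Agent.Disc12.Koszul.Regular
import Groth.Agent.CAlgH3.LocFreeFactor
import Groth.Agent.EGA43.QcohFP
import Groth.Agent.CechRes.Sheaf
import Mathlib.RingTheory.Regular.Flat
import Mathlib.RingTheory.Localization.Module
import Mathlib.LinearAlgebra.ExteriorPower.Basis

/-!
# Koszul complexes of sheaves read on affine opens

* `D_ιMulti`: the contraction of a decomposable element is `KoszSh.dGen`.
* `dHom C p U`: the differential on sections; `locEquiv C b p`: the sections read in a basis, and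
  `dHom_locEquiv`: the differential is the standard Koszul differential of the values of the cosection.
* `isZero_homology_of_regular`: the Koszul complex of a regular cosection is exact in positive degrees.
-/

set_option autoImplicit false
set_option backward.isDefEq.respectTransparency false
set_option backward.isDefEq.respectTransparency.types false

universe u

open CategoryTheory CategoryTheory.Limits AlgebraicGeometry Opposite TopologicalSpace
open Groth.Agent Groth.Agent.Coherent

namespace Groth.Agent.InjMod14.Kosz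

section Ring

variable {R : Type u} [CommRing R] {M : Type u} [AddCommGroup M] [Module R M]

/-- The contraction of a decomposable element. -/
theorem D_ιMulti (l : M →ₗ[R] R) : ∀ (p : ℕ) (v : Fin (p + 1) → M),
    Disc12.Koszul.D l (ExteriorAlgebra.ιMulti R (p + 1) v) =
      ((KoszSh.dGen l p v : ↥(⋀[R]^p M)) : ExteriorAlgebra R M)
  | 0, v => by
    rw [ExteriorAlgebra.ιMulti_succ_apply, ExteriorAlgebra.ιMulti_zero_apply, mul_one, Disc12.Koszul.D_ι]
    rw [KoszSh.dGen, Fin.sum_univ_one]
    simp only [Fin.val_zero, pow_zero, one_mul, Submodule.coe_smul, exteriorPower.ιMulti_apply_coe,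
      ExteriorAlgebra.ιMulti_zero_apply]
    exact Algebra.algebraMap_eq_smul_one (A := ExteriorAlgebra R M) (l (v 0))
  | p + 1, v => by
    rw [ExteriorAlgebra.ιMulti_succ_apply, Disc12.Koszul.D_ι_mul, D_ιMulti l p]
    unfold KoszSh.dGen
    rw [Fin.sum_univ_succ (n := p + 1), Submodule.coe_add, Submodule.coe_sum]
    simp only [Submodule.coe_sum, Submodule.coe_smul, exteriorPower.ιMulti_apply_coe, Finset.mul_sum,
      mul_smul_comm]
    rw [sub_eq_add_neg, ← Finset.sum_neg_distrib]
    refine congrArg₂ (· + ·) (by simp [Matrix.vecTail, Fin.succAbove, Function.comp_def]) (Finset.sum_congr rfl fun i _ => ?_)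
    rw [ExteriorAlgebra.ιMulti_succ_apply (v := fun j => v ((i.succ).succAbove j)), Fin.succ_succAbove_zero,
      ← neg_smul]
    refine congrArg₂ (· • ·) (by simp [Matrix.vecTail, pow_succ]) (congrArg (_ * ·) (congrArg _ (funext fun j => ?_)))
    simp [Matrix.vecTail, Fin.succ_succAbove_succ]

variable {n : ℕ}

/-- The exterior power in a basis. -/
noncomputable def coordEquiv (b : Module.Basis (Fin n) R M) (p : ℕ) :
    ↥(⋀[R]^p M) ≃ₗ[R] Disc12.Koszul.K R n p :=
  LinearEquiv.ofBijective (exteriorPower.map p b.equivFun.toLinearMap) <| by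
    refine Function.bijective_iff_has_inverse.2 ⟨exteriorPower.map p b.equivFun.symm.toLinearMap, fun x => ?_, fun x => ?_⟩
    · rw [← LinearMap.comp_apply, ← exteriorPower.map_comp]
      simp [exteriorPower.map_id]
    · rw [← LinearMap.comp_apply, ← exteriorPower.map_comp]
      simp [exteriorPower.map_id]

theorem coordEquiv_ιMulti (b : Module.Basis (Fin n) R M) (p : ℕ) (v : Fin p → M) :
    coordEquiv b p (exteriorPower.ιMulti R p v) = exteriorPower.ιMulti R p (b.equivFun ∘ v) := by
  show exteriorPower.map p b.equivFun.toLinearMap (exteriorPower.ιMulti R p v) = _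
  rw [exteriorPower.map_apply_ιMulti]
  rfl

/-- The rule in a basis. -/
theorem coordEquiv_dGen (b : Module.Basis (Fin n) R M) (φ : M →ₗ[R] R) (p : ℕ) (v : Fin (p + 1) → M) :
    coordEquiv b p (KoszSh.dGen φ p v) =
      Disc12.Koszul.d (fun k => φ (b k)) p (coordEquiv b (p + 1) (exteriorPower.ιMulti R (p + 1) v)) := by
  refine Subtype.ext ?_
  rw [coordEquiv_ιMulti, Disc12.Koszul.coe_d, exteriorPower.ιMulti_apply_coe, D_ιMulti]
  refine congrArg Subtype.val ?_
  rw [KoszSh.dGen, map_sum, KoszSh.dGen]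
  refine Finset.sum_congr rfl fun i _ => ?_
  rw [map_smul, coordEquiv_ιMulti]
  refine congrArg₂ (· • ·) (congrArg (_ * ·) ?_) rfl
  show φ (v i) = Disc12.Koszul.functional _ (b.equivFun (v i))
  rw [Disc12.Koszul.functional_apply]
  conv_lhs => rw [← b.sum_repr (v i), map_sum]
  exact Finset.sum_congr rfl fun j _ => by rw [map_smul, smul_eq_mul, b.equivFun_apply]

end Ring

section Sheaf

variable {X : Scheme.{u}} {E : X.Modules} {s : E ⟶ Coh.structureModule X}

/-- The differential on sections. -/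
noncomputable def dHom (C : KoszSh.Cx E s) (p : ℕ) (U : X.Opens) :
    Γ(C.K.X (p + 1), U) →ₗ[Γ(X, U)] Γ(C.K.X p, U) where
  toFun := (C.K.d (p + 1) p).app U
  map_add' := map_add _
  map_smul' r a := Scheme.Modules.Hom.app_smul _ r a

/-- The sections over an affine open in a basis. -/
noncomputable def locEquiv (C : KoszSh.Cx E s) {n : ℕ} {U : X.affineOpens}
    (b : Module.Basis (Fin n) Γ(X, U.1) Γ(E, U.1)) (p : ℕ) :
    Γ(C.K.X p, U.1) ≃ₗ[Γ(X, U.1)] Disc12.Koszul.K Γ(X, U.1) n p :=
  (C.loc p U).trans (coordEquiv b p)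

theorem dHom_locEquiv (C : KoszSh.Cx E s) {n : ℕ} {U : X.affineOpens}
    (b : Module.Basis (Fin n) Γ(X, U.1) Γ(E, U.1)) (p : ℕ) (z : Γ(C.K.X (p + 1), U.1)) :
    locEquiv C b p (dHom C p U.1 z) =
      Disc12.Koszul.d (fun k => KoszSh.secForm s U.1 (b k)) p (locEquiv C b (p + 1) z) := by
  have key : (locEquiv C b p).toLinearMap ∘ₗ dHom C p U.1 ∘ₗ (C.loc (p + 1) U).symm.toLinearMap =
      Disc12.Koszul.d (fun k => KoszSh.secForm s U.1 (b k)) p ∘ₗ (coordEquiv b (p + 1)).toLinearMap := by
    refine LinearMap.ext_on_range (exteriorPower.ιMulti_span _ _ _) fun v => ?_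
    show coordEquiv b p (C.loc p U ((C.K.d (p + 1) p).app U.1 ((C.loc (p + 1) U).symm _))) = _
    rw [C.rule, LinearEquiv.apply_symm_apply]
    exact coordEquiv_dGen b _ p v
  have := LinearMap.congr_fun key (C.loc (p + 1) U z)
  simpa [locEquiv] using this

/-- Exactness on the sections over an affine open with a basis on which the cosection is regular. -/
theorem exact_dHom (C : KoszSh.Cx E s) {n : ℕ} {U : X.affineOpens}
    (b : Module.Basis (Fin n) Γ(X, U.1) Γ(E, U.1))
    (h : RingTheory.Sequence.IsWeaklyRegular Γ(X, U.1) (List.ofFn fun k => KoszSh.secForm s U.1 (b k)))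
    (p : ℕ) (z : Γ(C.K.X (p + 1), U.1)) (hz : dHom C p U.1 z = 0) :
    ∃ w, dHom C (p + 1) U.1 w = z := by
  set f : Fin n → Γ(X, U.1) := fun k => KoszSh.secForm s U.1 (b k)
  have hreg := Disc12.Koszul.exactUpTo_of_regular (1 : Γ(X, U.1)) f fun i r hr => by
    refine ⟨0, ?_⟩
    rw [pow_zero, one_mul]
    have hi := (RingTheory.Sequence.isWeaklyRegular_iff _ _).1 h i.1 (by simp)
    rw [List.getElem_ofFn] at hi
    have hspan : (Ideal.ofList ((List.ofFn f).take i.1) • ⊤ : Submodule Γ(X, U.1) Γ(X, U.1)) =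
        Ideal.span (f '' Set.Iio i) := by
      rw [smul_eq_mul, Ideal.mul_top, Ideal.ofList]
      refine congrArg Ideal.span (Set.ext fun a => ?_)
      simp only [Set.mem_ofPred_eq, List.mem_take_iff_getElem, List.getElem_ofFn, List.length_ofFn, Set.mem_image,
        Set.mem_Iio]
      constructor
      · rintro ⟨j, hj, rfl⟩
        exact ⟨⟨j, by omega⟩, show j < i.1 by omega, rfl⟩
      · rintro ⟨j, hj, rfl⟩
        exact ⟨j.1, by have : j.1 < i.1 := hj; omega, rfl⟩
    rw [hspan] at hi
    refine (Submodule.Quotient.mk_eq_zero _).1 (hi (?_ : f ⟨i.1, i.2⟩ • Submodule.Quotient.mk r = f ⟨i.1, i.2⟩ • 0))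
    rw [smul_zero, ← Submodule.Quotient.mk_smul, Submodule.Quotient.mk_eq_zero]
    exact hr
  obtain ⟨k, y, hy⟩ := hreg p (locEquiv C b (p + 1) z) (by rw [← dHom_locEquiv, hz, map_zero])
  rw [one_pow, one_smul] at hy
  refine ⟨(locEquiv C b (p + 1 + 1)).symm y, (locEquiv C b (p + 1)).injective ?_⟩
  rw [dHom_locEquiv, LinearEquiv.apply_symm_apply]
  exact hy

theorem secForm_res (s : E ⟶ Coh.structureModule X) {U V : X.Opens} (h : V ≤ U) (e : Γ(E, U)) :
    KoszSh.secForm s V (resM E h e) = X.presheaf.map (homOfLE h).op (KoszSh.secForm s U e) :=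
  congrArg (OmegaSh.fnSect X V) (app_resM s h e)

/-- A basis of sections restricts to a basic open, keeping the cosection regular. -/
theorem exists_basis_basicOpen [Coh.IsQCoh E] (s : E ⟶ Coh.structureModule X) {n : ℕ} {U : X.Opens}
    (hU : IsAffineOpen U) (b : Module.Basis (Fin n) Γ(X, U) Γ(E, U)) (g : Γ(X, U)) :
    ∃ b' : Module.Basis (Fin n) Γ(X, X.basicOpen g) Γ(E, X.basicOpen g),
      (RingTheory.Sequence.IsWeaklyRegular Γ(X, U) (List.ofFn fun k => KoszSh.secForm s U (b k)) →
        RingTheory.Sequence.IsWeaklyRegular Γ(X, X.basicOpen g)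
          (List.ofFn fun k => KoszSh.secForm s (X.basicOpen g) (b' k))) ∧
      ∀ k, b' k = resM E (X.basicOpen_le g) (b k) := by
  letI := (X.presheaf.map (homOfLE (X.basicOpen_le g)).op).hom.toAlgebra
  letI := Module.compHom Γ(E, X.basicOpen g) (X.presheaf.map (homOfLE (X.basicOpen_le g)).op).hom
  haveI : IsScalarTower Γ(X, U) Γ(X, X.basicOpen g) Γ(E, X.basicOpen g) :=
    IsScalarTower.of_algebraMap_smul fun _ _ => rfl
  haveI := hU.isLocalization_basicOpen g
  let φ : Γ(E, U) →ₗ[Γ(X, U)] Γ(E, X.basicOpen g) :=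
    { toFun := resM E (X.basicOpen_le g)
      map_add' := map_add _
      map_smul' := fun r m => resM_smul E _ r m }
  haveI : IsLocalizedModule.Away g φ := EGA43.QcohFP.isLocalizedModule_res E hU g φ fun _ => rfl
  refine ⟨b.ofIsLocalizedModule Γ(X, X.basicOpen g) (Submonoid.powers g) φ, fun h => ?_,
    fun k => b.ofIsLocalizedModule_apply _ _ φ k⟩
  haveI : Module.Flat Γ(X, U) Γ(X, X.basicOpen g) := IsLocalization.flat _ (Submonoid.powers g)
  have h' := h.of_flat (S := Γ(X, X.basicOpen g))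
  rw [List.map_ofFn] at h'
  have e : (fun k => KoszSh.secForm s (X.basicOpen g)
      (b.ofIsLocalizedModule Γ(X, X.basicOpen g) (Submonoid.powers g) φ k)) =
      ⇑(algebraMap Γ(X, U) Γ(X, X.basicOpen g)) ∘ fun k => KoszSh.secForm s U (b k) :=
    funext fun k => (congrArg _ (b.ofIsLocalizedModule_apply _ _ φ k)).trans (secForm_res s _ (b k))
  rw [e]
  exact h'

/-- The Koszul complex of a regular cosection is exact in positive degrees. -/
theorem isZero_homology_of_regular [Coh.IsQCoh E] {n : ℕ}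
    (hs : ∀ x : X, ∃ U : X.affineOpens, x ∈ U.1 ∧
      ∃ b : Module.Basis (Fin n) Γ(X, U.1) Γ(E, U.1),
        RingTheory.Sequence.IsWeaklyRegular Γ(X, U.1) (List.ofFn fun k => KoszSh.secForm s U.1 (b k)))
    (C : KoszSh.Cx E s) (q : ℕ) (hq : 1 ≤ q) : IsZero (C.K.homology q) := by
  obtain ⟨p, rfl⟩ : ∃ p, q = p + 1 := ⟨q - 1, by omega⟩
  rw [← HomologicalComplex.exactAt_iff_isZero_homology,
    C.K.exactAt_iff' (p + 1 + 1) (p + 1) p (by simp) (by simp)]
  refine CechRes.exact_of_local_sections _ fun W z hz y hy => ?_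
  obtain ⟨U, hyU, b, hb⟩ := hs y
  obtain ⟨g, hgW, hyg⟩ := U.2.exists_basicOpen_le ⟨y, hy⟩ hyU
  obtain ⟨b', hb', -⟩ := exists_basis_basicOpen s U.2 b g
  let V : X.affineOpens := ⟨X.basicOpen g, U.2.basicOpen g⟩
  have hz' : dHom C p V.1 (resM (C.K.X (p + 1)) hgW z) = 0 :=
    (app_resM (C.K.d (p + 1) p) hgW z).trans ((congrArg _ hz).trans (map_zero _))
  obtain ⟨w, hw⟩ := exact_dHom C (U := V) b' (hb' hb) p _ hz'
  exact ⟨V.1, hgW, hyg, w, hw⟩

end Sheaf

end Groth.Agent.InjMod14.Kosz
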