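import Groth.Agent.InjMod14.Kosz.Twist

/-!
# The Koszul complex of copies of one element

For `f = (a, …, a)` with `a` a non-zero-divisor, forgetting the first coordinate identifies the cycles with
the exterior powers of `R^(n-1)`, and for `n ≥ 1` the boundaries are `a` times the cycles.
-/

set_option autoImplicit false
set_option backward.isDefEq.respectTransparency false

universe u

open ExteriorAlgebra

namespace Groth.Agent.InjMod14.Kosz

open Groth.Agent.Disc12.Koszul

variable {R : Type u} [CommRing R] {n : ℕ}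

/-- Forgetting the first coordinate. -/
noncomputable def dropFirst (R : Type u) [CommRing R] (n : ℕ) : (Fin n → R) →ₗ[R] (Fin (n - 1) → R) :=
  LinearMap.funLeft R R fun j => (⟨j.1 + 1, by have := j.2; omega⟩ : Fin n)

theorem dropFirst_succ (m : ℕ) : dropFirst R (m + 1) = proj := rfl

theorem dropFirst_single {n : ℕ} (i : Fin n) (j : Fin (n - 1)) :
    dropFirst R n (Pi.single i 1) j = if i.1 = j.1 + 1 then 1 else 0 := by
  simp [dropFirst, LinearMap.funLeft_apply, Pi.single_apply, Fin.ext_iff, eq_comm]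

theorem coe_map {M N : Type u} [AddCommGroup M] [Module R M] [AddCommGroup N] [Module R N] (c : M →ₗ[R] N)
    (q : ℕ) (x : ↥(⋀[R]^q M)) : ((exteriorPower.map q c x : ↥(⋀[R]^q N)) : ExteriorAlgebra R N) = map c x.1 := by
  have : (⋀[R]^q N).subtype ∘ₗ exteriorPower.map q c = (map c).toLinearMap ∘ₗ (⋀[R]^q M).subtype :=
    LinearMap.ext_on_range (exteriorPower.ιMulti_span _ _ _) fun v => by
      show ((exteriorPower.map q c (exteriorPower.ιMulti R q v) : ↥(⋀[R]^q N)) : ExteriorAlgebra R N) = map c _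
      rw [exteriorPower.map_apply_ιMulti, exteriorPower.ιMulti_apply_coe, Submodule.subtype_apply,
        exteriorPower.ιMulti_apply_coe, map_apply_ιMulti]
  exact LinearMap.congr_fun this x

theorem map_proj_step (a b : ExteriorAlgebra R (Fin n → R)) : map proj (step (a, b)) = b := by
  have hp0 : proj (R := R) (n := n) (Pi.single 0 1) = 0 :=
    funext fun i => by simp [proj, LinearMap.funLeft_apply, Fin.succ_ne_zero]
  have hretr : ∀ z : ExteriorAlgebra R (Fin n → R), map proj (map incl z) = z := fun z => by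
    rw [← AlgHom.comp_apply, map_comp_map, proj_incl, map_id]
    rfl
  rw [step_apply, map_add, map_mul, eps, map_apply_ι, hp0, map_zero, zero_mul, zero_add, hretr]

/-- The differential of `(1, …, 1)`. -/
noncomputable abbrev D₁ (R : Type u) [CommRing R] (n : ℕ) :
    ExteriorAlgebra R (Fin n → R) →ₗ[R] ExteriorAlgebra R (Fin n → R) :=
  D (functional fun _ : Fin n => (1 : R))

theorem D_const (a : R) (x : ExteriorAlgebra R (Fin n → R)) :
    D (functional fun _ : Fin n => a) x = a • D₁ R n x := by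
  have : functional (fun _ : Fin n => a) = a • functional fun _ : Fin n => (1 : R) :=
    LinearMap.ext fun v => by simp [Finset.mul_sum, mul_comm]
  rw [this]
  exact LinearMap.congr_fun (map_smul (CliffordAlgebra.contractLeft (Q := (0 : QuadraticForm R (Fin n → R)))) a _) x

theorem cons_ones {m : ℕ} : Fin.cons (1 : R) (fun _ : Fin m => (1 : R)) = fun _ : Fin (m + 1) => (1 : R) :=
  funext fun i => by induction i using Fin.cases <;> simp

/-- The cycle with a given image. -/
theorem exists_D₁_eq {m : ℕ} (q : ℕ) (b : ↥(⋀[R]^q (Fin m → R))) :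
    ∃ w ∈ ⋀[R]^(q + 1) (Fin (m + 1) → R), map proj (D₁ R (m + 1) w) = b.1 := by
  refine ⟨step (b.1, 0), (range_step q).le ⟨(b.1, 0), ⟨b.2, Submodule.zero_mem _⟩, rfl⟩, ?_⟩
  rw [D₁, ← cons_ones, D_step, map_proj_step, one_smul, map_zero, add_zero]

theorem eq_zero_of_map_proj {m : ℕ} : ∀ (q : ℕ) (z : ↥(⋀[R]^q (Fin (m + 1) → R))), D₁ R (m + 1) z.1 = 0 →
    map proj z.1 = 0 → z = 0
  | 0, ⟨z, hz⟩, _, h => by
    rw [exteriorPower, pow_zero] at hz
    obtain ⟨r, rfl⟩ := Submodule.mem_one.1 hz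
    rw [AlgHom.commutes] at h
    have hr : r = 0 := (ExteriorAlgebra.algebraMap_leftInverse (Fin m → R)).injective (h.trans (map_zero _).symm)
    exact Subtype.ext (by simp [hr])
  | p + 1, z, hD, h => by
    obtain ⟨⟨a, b⟩, -, hab⟩ := (range_step p).ge z.2
    rw [← hab, map_proj_step] at h
    rw [← hab, D₁, ← cons_ones, D_step, LinearMap.map_eq_zero_iff _ step_injective, Prod.mk_eq_zero, h, map_zero,
      add_zero, one_smul] at hD
    refine Subtype.ext ?_
    rw [← hab, h, hD.2, Prod.mk_zero_zero, map_zero]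
    rfl

theorem smul_eq_zero_K {a : R} (ha : IsLeftRegular a) (q : ℕ) {z : ExteriorAlgebra R (Fin n → R)}
    (hz : z ∈ ⋀[R]^q (Fin n → R)) (h : a • z = 0) : z = 0 :=
  congrArg Subtype.val (smul_eq_zero_free (Pi.basisFun R (Fin n)) (fun r hr => ha (hr.trans (mul_zero _).symm))
    q ⟨z, hz⟩ (Subtype.ext h))

/-- Cycles of `(a, …, a)` are the cycles of `(1, …, 1)`. -/
theorem D₁_eq_zero {a : R} (ha : IsLeftRegular a) : ∀ (q : ℕ) (z : ↥(⋀[R]^q (Fin n → R))),
    D (functional fun _ : Fin n => a) z.1 = 0 → D₁ R n z.1 = 0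
  | 0, ⟨z, hz⟩, _ => by
    rw [exteriorPower, pow_zero] at hz
    obtain ⟨r, rfl⟩ := Submodule.mem_one.1 hz
    exact D_algebraMap _ r
  | p + 1, z, h => by
    rw [D_const] at h
    exact smul_eq_zero_K ha p (D_mem _ p z.2) h

theorem dropFirst_injective_zero (q : ℕ) (z : ↥(⋀[R]^q (Fin 0 → R)))
    (h : exteriorPower.map q (dropFirst R 0) z = 0) : z = 0 := by
  have hid : dropFirst R 0 = (LinearMap.id : (Fin 0 → R) →ₗ[R] (Fin 0 → R)) := Subsingleton.elim _ _
  rw [hid, exteriorPower.map_id] at h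
  exact h

/-- Forgetting the first coordinate is injective on cycles. -/
theorem eq_zero_of_dropFirst : ∀ {n : ℕ} (q : ℕ) (z : ↥(⋀[R]^q (Fin n → R))), D₁ R n z.1 = 0 →
    exteriorPower.map q (dropFirst R n) z = 0 → z = 0
  | 0, q, z, _, h => dropFirst_injective_zero q z h
  | m + 1, q, z, hD, h => eq_zero_of_map_proj q z hD ((coe_map (dropFirst R (m + 1)) q z).symm.trans
      (congrArg Subtype.val h))

/-- Forgetting the first coordinate is surjective on cycles. -/
theorem exists_cycle_dropFirst : ∀ {n : ℕ} (q : ℕ) (b : ↥(⋀[R]^q (Fin (n - 1) → R))),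
    ∃ z : ↥(⋀[R]^q (Fin n → R)), D₁ R n z.1 = 0 ∧ exteriorPower.map q (dropFirst R n) z = b
  | 0, q, b => by
    refine ⟨b, ?_, ?_⟩
    · have : functional (fun _ : Fin 0 => (1 : R)) = 0 := LinearMap.ext fun v => by simp
      simp [D₁, this, D]
    · have hid : dropFirst R 0 = (LinearMap.id : (Fin 0 → R) →ₗ[R] (Fin 0 → R)) := Subsingleton.elim _ _
      rw [hid, exteriorPower.map_id]
      rfl
  | m + 1, q, b => by
    obtain ⟨w, hw, hb⟩ := exists_D₁_eq q b
    exact ⟨⟨D₁ R (m + 1) w, D_mem _ q hw⟩, D_D _ _, Subtype.ext ((coe_map _ q _).trans hb)⟩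

/-- For `n ≥ 1` the cycles of `(1, …, 1)` are boundaries. -/
theorem exists_D₁ {m : ℕ} (q : ℕ) (z : ↥(⋀[R]^q (Fin (m + 1) → R))) (hz : D₁ R (m + 1) z.1 = 0) :
    ∃ w : ↥(⋀[R]^(q + 1) (Fin (m + 1) → R)), D₁ R (m + 1) w.1 = z.1 := by
  obtain ⟨w, hw, hb⟩ := exists_D₁_eq q ⟨map proj z.1, map_mem _ q z.2⟩
  have h0 := eq_zero_of_map_proj q (z - ⟨D₁ R (m + 1) w, D_mem _ q hw⟩)
    (by rw [Submodule.coe_sub, map_sub, hz, zero_sub]; exact neg_eq_zero.2 (D_D _ _))
    (by rw [Submodule.coe_sub, map_sub, hb, sub_self])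
  exact ⟨⟨w, hw⟩, (sub_eq_zero.1 (congrArg Subtype.val h0)).symm⟩

end Groth.Agent.InjMod14.Kosz
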