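import Groth.Agent.InjMod14.Kosz.Twisted
import Groth.Agent.InjMod14.Kosz.LciNear
import Groth.Agent.InjMod14.Kosz.CopiesRing

/-!
# Koszul complexes of copies of one divisor

* `exists_iso_of_charts`: two maps injective with the same image on small affine opens;
* `exists_extMap`: the exterior power of a morphism into a module which is an exterior power;
* `chart_copies`, `exists_copies_map`: the cycles of the Koszul complex of `n` copies of a divisor;
* `nonempty_resD_iso`: a quotient by the multiples of an equation is the restriction to the divisor.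
-/

set_option autoImplicit false
set_option backward.isDefEq.respectTransparency false
set_option backward.isDefEq.respectTransparency.types false

universe u

open CategoryTheory CategoryTheory.Limits AlgebraicGeometry Opposite TopologicalSpace exteriorPower
open Groth.Agent Groth.Agent.Coherent Groth.Agent.PicLib Groth.Agent.AmpleLib

namespace Groth.Agent.InjMod14.Kosz

variable {X : Scheme.{u}}

/-- Two maps injective with the same image on small affine opens. -/
theorem exists_iso_of_charts {A A' B : X.Modules} (f : A ⟶ B) (g : A' ⟶ B)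
    (h : ∀ (W : X.Opens) (x : X), x ∈ W → ∃ V : X.affineOpens, x ∈ V.1 ∧ V.1 ≤ W ∧
      Function.Injective (f.app V.1) ∧ Function.Injective (g.app V.1) ∧
      (∀ a, ∃ a', g.app V.1 a' = f.app V.1 a) ∧ ∀ a', ∃ a, f.app V.1 a = g.app V.1 a') :
    ∃ χ : A' ≅ A, χ.hom ≫ f = g := by
  haveI : Mono f := mono_of_affine_nbhds f fun W x hx => by
    obtain ⟨V, hxV, hVW, hf, -⟩ := h W x hx
    exact ⟨V, hxV, hVW, hf⟩
  have hg : g ≫ cokernel.π f = 0 := hom_ext_local _ _ fun W x hx => by
    obtain ⟨V, hxV, hVW, -, -, -, h4⟩ := h W x hx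
    refine ⟨V, hxV, hVW, fun a' => ?_⟩
    obtain ⟨a, ha⟩ := h4 a'
    rw [app_comp_apply, ← ha, ← app_comp_apply, cokernel.condition]
    rfl
  let χ := Abelian.monoLift f g hg
  have hχ : χ ≫ f = g := Abelian.monoLift_comp f g hg
  haveI : IsIso χ := isIso_of_affine_nbhds χ fun W x hx => by
    obtain ⟨V, hxV, hVW, hf, hg', h3, -⟩ := h W x hx
    refine ⟨V, hxV, hVW, ⟨fun a b hab => hg' ?_, fun a => ?_⟩⟩
    · rw [← hχ, app_comp_apply, app_comp_apply, hab]
    · obtain ⟨a', ha'⟩ := h3 a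
      refine ⟨a', hf ?_⟩
      rw [← app_comp_apply, hχ, ha']
  exact ⟨asIso χ, hχ⟩

/-- The exterior power of a morphism into a module which is an exterior power. -/
theorem exists_extMap {E F L : X.Modules} {s : E ⟶ Coh.structureModule X} (C : KoszSh.Cx E s) (f : E ⟶ F) (q : ℕ)
    (φ : ∀ U : X.affineOpens, Γ(L, U.1) ≃ₗ[Γ(X, U.1)] ↥(⋀[Γ(X, U.1)]^q Γ(F, U.1)))
    (hφ : ∀ (U V : X.affineOpens) (h : V.1 ≤ U.1) (e : Fin q → Γ(F, U.1)),
      resM L h ((φ U).symm (ιMulti _ q e)) = (φ V).symm (ιMulti _ q (fun j => resM F h (e j)))) :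
    ∃ Ψ : C.K.X q ⟶ L, ∀ (U : X.affineOpens) (z : Γ(C.K.X q, U.1)),
      φ U (Ψ.app U.1 z) = exteriorPower.map q (appLin f U.1) (C.loc q U z) := by
  obtain ⟨Ψ, hΨ⟩ := exists_hom_of_affine (C.K.X q) L (fun U => (φ U).symm.toLinearMap ∘ₗ
    exteriorPower.map q (appLin f U.1) ∘ₗ (C.loc q U).toLinearMap) fun U V h z => by
    refine ext_loc (N := Γ(L, V.1)) (R' := Γ(X, V.1)) C q U (X.presheaf.map (homOfLE h).op).hom
      (fun w => ((φ V).symm.toLinearMap ∘ₗ exteriorPower.map q (appLin f V.1) ∘ₗ (C.loc q V).toLinearMap)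
        (resM (C.K.X q) h w))
      (fun w => resM L h (((φ U).symm.toLinearMap ∘ₗ exteriorPower.map q (appLin f U.1) ∘ₗ
        (C.loc q U).toLinearMap) w))
      ?_ ?_ ?_ ?_ (fun e => ?_) z
    · intro x y; simp only [map_add]
    · intro x y; simp only [map_add]
    · intro r x
      rw [resM_smul, map_smul]
    · intro r x
      rw [map_smul, resM_smul]
    · simp only [LinearMap.comp_apply, LinearEquiv.coe_coe, LinearEquiv.apply_symm_apply,
        exteriorPower.map_apply_ιMulti]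
      erw [C.loc_res q U V h e, hφ U V h]
      rw [LinearEquiv.apply_symm_apply, exteriorPower.map_apply_ιMulti]
      exact congrArg (fun w => (φ V).symm (ιMulti _ q w)) (funext fun j => app_resM f h (e j))
  exact ⟨Ψ, fun U z => by rw [hΨ]; exact (φ U).apply_symm_apply _⟩

/-- A generator near every point. -/
theorem exists_gen_near (J : X.IdealSheafData) (hJ : BlowUp.IsEffCartierIdeal J) (W : X.Opens) (x : X) (hx : x ∈ W) :
    ∃ V : X.affineOpens, x ∈ V.1 ∧ V.1 ≤ W ∧ ∃ k : Γ(ClSub.idealMod J, V.1),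
      IsGen (ClSub.idealMod J) V.1 k ∧ IsLeftRegular (ival J V.1 k) := by
  obtain ⟨U, hxU, hU, k, hk, hreg⟩ := exists_gen_regular J hJ x
  obtain ⟨V, hV, hxV, hVU⟩ := Opens.isBasis_iff_nbhd.mp X.isBasis_affineOpens (show x ∈ W ⊓ U from ⟨hx, hxU⟩)
  have h : V ≤ U := hVU.trans inf_le_right
  exact ⟨⟨V, hV⟩, hxV, hVU.trans inf_le_left, resM _ h k, hk.restrict h, by
    rw [ival_resM]; exact FlatMor12.IdealModGen.isLeftRegular_res hU hreg h⟩

theorem gen_restrict (J : X.IdealSheafData) {U V : X.affineOpens} (h : V.1 ≤ U.1) {k : Γ(ClSub.idealMod J, U.1)}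
    (hk : IsGen (ClSub.idealMod J) U.1 k) (hreg : IsLeftRegular (ival J U.1 k)) :
    IsGen (ClSub.idealMod J) V.1 (resM _ h k) ∧ IsLeftRegular (ival J V.1 (resM _ h k)) :=
  ⟨hk.restrict h, by rw [ival_resM]; exact FlatMor12.IdealModGen.isLeftRegular_res U.2 hreg h⟩

variable (n : ℕ) (I : X.IdealSheafData)

/-- Forgetting the first copy. -/
noncomputable def prMap : (∐ fun _ : Fin n => ClSub.idealMod I) ⟶ FlatMod.freeMod X (n - 1) :=
  Limits.Sigma.desc fun i => if h : i.1 = 0 then 0 else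
    ClSub.idealModι I ≫ Limits.Sigma.ι (fun _ : Fin (n - 1) => Coh.structureModule X)
      (⟨i.1 - 1, by have := i.2; omega⟩ : Fin (n - 1))

variable {n I}

theorem oneSec_smul {U : X.Opens} (r : Γ(X, U)) :
    r • oneSec U = (show Γ(Coh.structureModule X, U) from r) := mul_one r

section Chart

variable (C : KoszSh.Cx (∐ fun _ : Fin n => ClSub.idealMod I) (Limits.Sigma.desc fun _ : Fin n => ClSub.idealModι I))
  (q : ℕ) {L : X.Modules}
  (φ : ∀ U : X.affineOpens, Γ(L, U.1) ≃ₗ[Γ(X, U.1)] ↥(⋀[Γ(X, U.1)]^q Γ(FlatMod.freeMod X (n - 1), U.1)))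

/-- The cycles of copies of a divisor on a chart. -/
theorem chart_copies (Ψ : C.K.X q ⟶ L)
    (hΨ : ∀ (U : X.affineOpens) (z : Γ(C.K.X q, U.1)),
      φ U (Ψ.app U.1 z) = exteriorPower.map q (appLin (prMap n I) U.1) (C.loc q U z))
    {V : X.affineOpens} {k : Γ(ClSub.idealMod I, V.1)} (hk : IsGen (ClSub.idealMod I) V.1 k)
    (ha : IsLeftRegular (ival I V.1 k)) :
    Function.Injective ((C.K.iCycles q ≫ Ψ).app V.1) ∧
    (∀ ℓ, ∃ z, (C.K.iCycles q ≫ Ψ).app V.1 z = ival I V.1 k ^ q • ℓ) ∧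
    (∀ z, ∃ ℓ, (C.K.iCycles q ≫ Ψ).app V.1 z = ival I V.1 k ^ q • ℓ) ∧
    (∀ w, ∃ z, (C.K.toCycles (q + 1) q).app V.1 w = ival I V.1 k • z) ∧
    (1 ≤ n → ∀ z, ∃ w, (C.K.toCycles (q + 1) q).app V.1 w = ival I V.1 k • z) ∧
    ∀ (r : Γ(X, V.1)), IsLeftRegular r → ∀ ℓ : Γ(L, V.1), r • ℓ = 0 → ℓ = 0 := by
  set a := ival I V.1 k
  let b := sigmaBasis (L := fun _ : Fin n => ClSub.idealMod I) (fun _ => k) (fun _ => hk)
  let e := sigmaBasis (L := fun _ : Fin (n - 1) => Coh.structureModule X) (fun _ => oneSec V.1)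
    (fun _ => isGen_oneSec V.1)
  have hpr : e.equivFun.toLinearMap ∘ₗ appLin (prMap n I) V.1 =
      a • (dropFirst Γ(X, V.1) n ∘ₗ b.equivFun.toLinearMap) := b.ext fun i => by
    show e.equivFun ((prMap n I).app V.1 (b i)) = a • dropFirst Γ(X, V.1) n (b.equivFun (b i))
    have hbi : b.equivFun (b i) = Pi.single i 1 := by
      rw [b.equivFun_apply, b.repr_self, Finsupp.single_eq_pi_single]
    rw [hbi, sigmaBasis_apply, ← app_comp_apply, prMap, Limits.Sigma.ι_desc]
    by_cases h : i.1 = 0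
    · rw [dif_pos h]
      refine (map_zero e.equivFun).trans (funext fun j => ?_)
      rw [Pi.smul_apply, dropFirst_single, if_neg (by omega), smul_zero]
      rfl
    · rw [dif_neg h, app_comp_apply]
      refine (congrArg e.equivFun ((congrArg ((Limits.Sigma.ι (fun _ : Fin (n - 1) => Coh.structureModule X)
        (⟨i.1 - 1, by have := i.2; omega⟩ : Fin (n - 1))).app V.1) (oneSec_smul a).symm).trans
          (Scheme.Modules.Hom.app_smul _ a (oneSec V.1)))).trans ?_
      rw [map_smul, ← sigmaBasis_apply (L := fun _ : Fin (n - 1) => Coh.structureModule X) (fun _ => oneSec V.1)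
        (fun _ => isGen_oneSec V.1), e.equivFun_apply, e.repr_self, Finsupp.single_eq_pi_single]
      refine congrArg (a • ·) (funext fun j => ?_)
      rw [dropFirst_single, Pi.single_apply]
      refine if_congr ?_ rfl rfl
      rw [Fin.ext_iff]
      show j.1 = i.1 - 1 ↔ _
      omega
  have hf : (fun i => KoszSh.secForm (Limits.Sigma.desc fun _ : Fin n => ClSub.idealModι I) V.1 (b i)) =
      fun _ : Fin n => a := funext fun i => by
    show (Limits.Sigma.desc fun _ : Fin n => ClSub.idealModι I).app V.1 (b i) = _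
    rw [sigmaBasis_apply, ← app_comp_apply, Limits.Sigma.ι_desc]
    rfl
  let LE : Γ(L, V.1) ≃ₗ[Γ(X, V.1)] Disc12.Koszul.K Γ(X, V.1) (n - 1) q := (φ V).trans (coordEquiv e q)
  let CE := fun p => locEquiv C b p
  have hcoord : ∀ y, LE (Ψ.app V.1 y) = a ^ q • exteriorPower.map q (dropFirst Γ(X, V.1) n) (CE q y) := fun y => by
    show exteriorPower.map q e.equivFun.toLinearMap (φ V (Ψ.app V.1 y)) = a ^ q •
      exteriorPower.map q (dropFirst Γ(X, V.1) n) (exteriorPower.map q b.equivFun.toLinearMap (C.loc q V y))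
    rw [hΨ, ← LinearMap.comp_apply, ← exteriorPower.map_comp, hpr, map_smul_map, ← LinearMap.comp_apply,
      ← exteriorPower.map_comp]
  have hd : ∀ p y, ((CE p ((C.K.d (p + 1) p).app V.1 y)).1) = a • D₁ Γ(X, V.1) n (CE (p + 1) y).1 := fun p y => by
    refine (congrArg Subtype.val (dHom_locEquiv C b p y)).trans ?_
    rw [Disc12.Koszul.coe_d, hf, D_const]
  have hcyc : ∀ z, D₁ Γ(X, V.1) n (CE q ((C.K.iCycles q).app V.1 z)).1 = 0 := fun z => by
    refine D₁_eq_zero ha q _ ?_
    rcases q with _ | p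
    · obtain ⟨r, hr⟩ := Disc12.Koszul.e0_surjective (CE 0 ((C.K.iCycles 0).app V.1 z))
      rw [← hr]
      exact Disc12.Koszul.D_algebraMap _ r
    · have h0 : (C.K.d (p + 1) p).app V.1 ((C.K.iCycles (p + 1)).app V.1 z) = 0 := by
        rw [← app_comp_apply, HomologicalComplex.iCycles_d]; rfl
      rw [D_const, ← hd, h0, map_zero]
      rfl
  have hlift : ∀ y : Disc12.Koszul.K Γ(X, V.1) n q, D₁ Γ(X, V.1) n y.1 = 0 →
      ∃ z, CE q ((C.K.iCycles q).app V.1 z) = y := fun y hy => by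
    obtain ⟨z, hz⟩ := exists_cycle C.K q ((CE q).symm y) (by
      rcases q with _ | p
      · rw [C.K.shape _ _ (by simp)]; rfl
      · rw [ChainComplex.next_nat_succ]
        refine (CE p).injective (Subtype.ext ?_)
        rw [hd, LinearEquiv.apply_symm_apply, hy, smul_zero, map_zero]
        rfl)
    exact ⟨z, by rw [hz, LinearEquiv.apply_symm_apply]⟩
  have hfree : ∀ (r : Γ(X, V.1)), IsLeftRegular r → ∀ ℓ : Γ(L, V.1), r • ℓ = 0 → ℓ = 0 := fun r hr ℓ hℓ => by
    refine LE.injective ?_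
    rw [map_zero]
    refine smul_eq_zero_free (Pi.basisFun Γ(X, V.1) (Fin (n - 1))) (fun s hs => hr (hs.trans (mul_zero _).symm)) q _ ?_
    rw [← map_smul, hℓ, map_zero]
  refine ⟨fun z₁ z₂ h => ?_, fun ℓ => ?_, fun z => ?_, fun w => ?_, fun hn z => ?_, hfree⟩
  · have h0 : (C.K.iCycles q ≫ Ψ).app V.1 (z₁ - z₂) = 0 := by rw [map_sub, h, sub_self]
    have h1 := hcoord ((C.K.iCycles q).app V.1 (z₁ - z₂))
    rw [app_comp_apply] at h0
    rw [h0, map_zero] at h1
    have h2 := smul_eq_zero_free (Pi.basisFun Γ(X, V.1) (Fin (n - 1)))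
      (fun s hs => (ha.pow q) (hs.trans (mul_zero _).symm)) q _ h1.symm
    have h3 := eq_zero_of_dropFirst q _ (hcyc _) h2
    refine sub_eq_zero.1 (app_injective_of_mono (C.K.iCycles q) V.1 ((CE q).injective ?_))
    rw [h3, map_zero, map_zero]
  · obtain ⟨y, hy, hyb⟩ := exists_cycle_dropFirst q (LE ℓ)
    obtain ⟨z, hz⟩ := hlift y hy
    refine ⟨z, LE.injective ?_⟩
    rw [app_comp_apply, hcoord, hz, hyb, map_smul]
  · refine ⟨LE.symm (exteriorPower.map q (dropFirst Γ(X, V.1) n) (CE q ((C.K.iCycles q).app V.1 z))), LE.injective ?_⟩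
    rw [app_comp_apply, hcoord, map_smul, LinearEquiv.apply_symm_apply]
  · obtain ⟨z, hz⟩ := hlift ⟨D₁ Γ(X, V.1) n (CE (q + 1) w).1, Disc12.Koszul.D_mem _ q (CE (q + 1) w).2⟩
      (Disc12.Koszul.D_D _ _)
    refine ⟨z, app_injective_of_mono (C.K.iCycles q) V.1 ((CE q).injective (Subtype.ext ?_))⟩
    rw [← app_comp_apply, HomologicalComplex.toCycles_i, hd, Scheme.Modules.Hom.app_smul, map_smul, hz]
    rfl
  · obtain ⟨m, rfl⟩ : ∃ m, n = m + 1 := ⟨n - 1, by omega⟩
    obtain ⟨y, hy⟩ := exists_D₁ q _ (hcyc z)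
    refine ⟨(CE (q + 1)).symm y, app_injective_of_mono (C.K.iCycles q) V.1 ((CE q).injective (Subtype.ext ?_))⟩
    rw [← app_comp_apply, HomologicalComplex.toCycles_i, hd, LinearEquiv.apply_symm_apply,
      Scheme.Modules.Hom.app_smul, map_smul, hy]
    rfl

end Chart

/-- An epimorphism with kernel in the multiples of the ideal identifies the restriction. -/
theorem nonempty_resD_iso (ID : X.IdealSheafData) {A B : X.Modules} (T : A ⟶ B) [Epi T]
    (hB : ClSub.KilledByIdeal ID B)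
    (hker : ∀ (W : X.Opens) (x : X), x ∈ W → ∀ m : Γ(A, W), T.app W m = 0 →
      ∃ (W' : X.Opens) (hW : W' ≤ W), x ∈ W' ∧ (unitD ID A).app W' (resM A hW m) = 0) :
    Nonempty ((resD ID).obj A ≅ B) := by
  have hB' : ClSub.KilledByIdeal ID.subschemeι.ker B := by rwa [Scheme.IdealSheafData.ker_subschemeι]
  haveI : IsIso (unitD ID B) := isIso_clUnit ID.subschemeι hB'
  let β := (resD ID).map T ≫ inv (unitD ID B)
  have hn : T ≫ unitD ID B = unitD ID A ≫ (resD ID).map T :=
    (Scheme.Modules.pullbackPushforwardAdjunction ID.subschemeι).unit.naturality T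
  have hβ : unitD ID A ≫ β = T := by
    rw [← Category.assoc, ← hn, Category.assoc, IsIso.hom_inv_id, Category.comp_id]
  haveI : Epi β := epi_of_epi_fac hβ
  haveI : Mono β := Preadditive.mono_of_cancel_zero _ fun {P} g hg =>
    Scheme.Modules.hom_ext _ _ fun U => ConcreteCategory.hom_ext _ _ fun p => by
      refine sec_ext fun x hx => ?_
      obtain ⟨W₁, hW₁, hxW₁, m, hm'⟩ := exists_clUnit_eq ID A (g.app U p) hx
      have hm : (unitD ID A).app W₁ m = resM ((resD ID).obj A) hW₁ (g.app U p) := hm'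
      have hT : T.app W₁ m = 0 := by
        rw [← hβ, app_comp_apply]
        refine (congrArg (β.app W₁) hm).trans ?_
        rw [app_resM, ← app_comp_apply g β, hg]
        exact map_zero _
      obtain ⟨W₂, hW₂, hxW₂, h0⟩ := hker W₁ x hxW₁ m hT
      refine ⟨W₂, hW₂.trans hW₁, hxW₂, ?_⟩
      show resM _ _ (g.app U p) = resM _ _ 0
      rw [← resM_resM _ hW₁ hW₂, ← hm, ← app_resM]
      exact h0.trans (map_zero _).symm
  haveI : IsIso β := isIso_of_mono_of_epi β
  exact ⟨asIso β⟩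

end Groth.Agent.InjMod14.Kosz
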