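import Groth.Agent.InjMod14.Kosz.Copies

/-!
# Cycles and homology of Koszul complexes of copies of divisors

`nonempty_cycles_iso`, `nonempty_restriction_iso`.
-/

set_option autoImplicit false
set_option backward.isDefEq.respectTransparency false
set_option backward.isDefEq.respectTransparency.types false

universe u

open CategoryTheory CategoryTheory.Limits AlgebraicGeometry Opposite TopologicalSpace exteriorPower
open Groth.Agent Groth.Agent.Coherent Groth.Agent.PicLib Groth.Agent.AmpleLib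

namespace Groth.Agent.InjMod14.Kosz

variable {X : Scheme.{u}} {n : ℕ} {I ID : X.IdealSheafData}
  (hI : BlowUp.IsEffCartierIdeal I) (hD : BlowUp.IsEffCartierIdeal ID)
  (C : KoszSh.Cx (∐ fun _ : Fin n => ClSub.idealMod I) (Limits.Sigma.desc fun _ : Fin n => ClSub.idealModι I))
  (CD : KoszSh.Cx (∐ fun _ : Fin n => ClSub.idealMod ID) (Limits.Sigma.desc fun _ : Fin n => ClSub.idealModι ID))
  (q : ℕ) {L : X.Modules}

/-- Sections of a twist map to multiples. -/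
theorem powMap_tmul (J : X.IdealSheafData) {A : X.Modules} (f : A ⟶ L) (U : X.Opens) (z : Γ(A, U))
    (k : Γ(ClSub.idealMod J, U)) :
    (KoszTw.tensorMap f (𝟙 (CohB1.tensorPow (ClSub.idealMod J) q)) ≫ powMul J L q).app U (tmul z (powSec k q)) =
      ival J U k ^ q • f.app U z := by
  rw [app_comp_apply]
  refine (congrArg ((powMul J L q).app U) (KoszTw.tensorMap_tmul _ _ _ _ _)).trans ?_
  exact powMul_tmul J L q U (f.app U z) k

include hI in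
theorem nonempty_cycles_iso (hL : ExtPow.IsExtPow q (FlatMod.freeMod X (n - 1)) L) :
    Nonempty (C.K.cycles q ≅ CohB1.tensorMod L (CohB1.tensorPow (ClSub.idealMod I) q)) := by
  obtain ⟨φ, hφ⟩ := hL
  obtain ⟨Ψ, hΨ⟩ := exists_extMap C (prMap n I) q φ hφ
  obtain ⟨χ, -⟩ := exists_iso_of_charts (C.K.iCycles q ≫ Ψ) (powMul I L q) fun W x hx => by
    obtain ⟨V, hxV, hVW, k, hk, ha⟩ := exists_gen_near I hI W x hx
    obtain ⟨hinj, hsurj, hmem, -, -, hfree⟩ := chart_copies C q φ Ψ hΨ hk ha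
    refine ⟨V, hxV, hVW, hinj, fun s₁ s₂ h => ?_, fun z => ?_, fun s => ?_⟩
    · obtain ⟨m₁, rfl⟩ := exists_tmul_powSec hk q s₁
      obtain ⟨m₂, rfl⟩ := exists_tmul_powSec hk q s₂
      rw [powMul_tmul, powMul_tmul, ← sub_eq_zero, ← smul_sub] at h
      rw [sub_eq_zero.1 (hfree _ (ha.pow q) _ h)]
    · obtain ⟨ℓ, hℓ⟩ := hmem z
      exact ⟨tmul ℓ (powSec k q), by rw [powMul_tmul, hℓ]⟩
    · obtain ⟨ℓ, rfl⟩ := exists_tmul_powSec hk q s
      obtain ⟨z, hz⟩ := hsurj ℓ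
      exact ⟨z, by rw [powMul_tmul, hz]⟩
  exact ⟨χ.symm⟩

include hI hD in
theorem nonempty_restriction_iso (hL : ExtPow.IsExtPow q (FlatMod.freeMod X (n - 1)) L) (hn : 1 ≤ n) :
    Nonempty ((resD ID).obj (CohB1.tensorMod (C.K.cycles q) (CohB1.tensorPow (ClSub.idealMod ID) q)) ≅
      CohB1.tensorMod (CD.K.homology q) (CohB1.tensorPow (ClSub.idealMod I) q)) := by
  obtain ⟨φ, hφ⟩ := hL
  obtain ⟨Ψ, hΨ⟩ := exists_extMap C (prMap n I) q φ hφ
  obtain ⟨ΨD, hΨD⟩ := exists_extMap CD (prMap n ID) q φ hφ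
  have hchart : ∀ (W : X.Opens) (x : X), x ∈ W → ∃ V : X.affineOpens, x ∈ V.1 ∧ V.1 ≤ W ∧
      (∃ k : Γ(ClSub.idealMod I, V.1), IsGen (ClSub.idealMod I) V.1 k ∧ IsLeftRegular (ival I V.1 k)) ∧
      ∃ k : Γ(ClSub.idealMod ID, V.1), IsGen (ClSub.idealMod ID) V.1 k ∧ IsLeftRegular (ival ID V.1 k) := by
    intro W x hx
    obtain ⟨V₁, hxV₁, hV₁, k₁, hk₁, ha₁⟩ := exists_gen_near I hI W x hx
    obtain ⟨V, hxV, hV, k, hk, ha⟩ := exists_gen_near ID hD V₁.1 x hxV₁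
    exact ⟨V, hxV, hV.trans hV₁, ⟨_, gen_restrict I hV hk₁ ha₁⟩, k, hk, ha⟩
  -- the two twists have the same image in `L`
  obtain ⟨θ, -⟩ := exists_iso_of_charts
    (KoszTw.tensorMap (CD.K.iCycles q ≫ ΨD) (𝟙 (CohB1.tensorPow (ClSub.idealMod I) q)) ≫ powMul I L q)
    (KoszTw.tensorMap (C.K.iCycles q ≫ Ψ) (𝟙 (CohB1.tensorPow (ClSub.idealMod ID) q)) ≫ powMul ID L q)
    fun W x hx => by
    obtain ⟨V, hxV, hVW, ⟨k, hk, ha⟩, kD, hkD, haD⟩ := hchart W x hx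
    obtain ⟨hinj, hsurj, hmem, -, -, hfree⟩ := chart_copies C q φ Ψ hΨ hk ha
    obtain ⟨hinjD, hsurjD, hmemD, -, -, -⟩ := chart_copies CD q φ ΨD hΨD hkD haD
    refine ⟨V, hxV, hVW, fun s₁ s₂ h => ?_, fun s₁ s₂ h => ?_, fun s => ?_, fun s => ?_⟩
    · obtain ⟨m₁, rfl⟩ := exists_tmul_powSec hk q s₁
      obtain ⟨m₂, rfl⟩ := exists_tmul_powSec hk q s₂
      rw [powMap_tmul, powMap_tmul, ← sub_eq_zero, ← smul_sub] at h
      rw [hinjD (sub_eq_zero.1 (hfree _ (ha.pow q) _ h))]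
    · obtain ⟨m₁, rfl⟩ := exists_tmul_powSec hkD q s₁
      obtain ⟨m₂, rfl⟩ := exists_tmul_powSec hkD q s₂
      rw [powMap_tmul, powMap_tmul, ← sub_eq_zero, ← smul_sub] at h
      rw [hinj (sub_eq_zero.1 (hfree _ (haD.pow q) _ h))]
    · obtain ⟨m, rfl⟩ := exists_tmul_powSec hk q s
      obtain ⟨ℓ, hℓ⟩ := hmemD m
      obtain ⟨m', hm'⟩ := hsurj ℓ
      exact ⟨tmul m' (powSec kD q), by rw [powMap_tmul, powMap_tmul, hm', hℓ, smul_comm]⟩
    · obtain ⟨m, rfl⟩ := exists_tmul_powSec hkD q s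
      obtain ⟨ℓ, hℓ⟩ := hmem m
      obtain ⟨m', hm'⟩ := hsurjD ℓ
      exact ⟨tmul m' (powSec k q), by rw [powMap_tmul, powMap_tmul, hm', hℓ, smul_comm]⟩
  let π := CD.K.homologyπ q
  have hprev : (ComplexShape.down ℕ).prev q = q + 1 := ChainComplex.prev ℕ q
  have hexC := ShortComplex.exact_of_g_is_cokernel (ShortComplex.mk _ _ (CD.K.toCycles_comp_homologyπ (q + 1) q))
    (CD.K.homologyIsCokernel (q + 1) q hprev)
  let T₀ := KoszTw.tensorMap π (𝟙 (CohB1.tensorPow (ClSub.idealMod I) q))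
  haveI : Epi T₀ := epi_of_locally_surjective T₀ fun W a x hx => by
    obtain ⟨V, hxV, hVW, ⟨k, hk, -⟩, -⟩ := hchart W x hx
    obtain ⟨p, hp⟩ := exists_tmul_powSec hk q (resM _ hVW a)
    obtain ⟨W', hW', hxW', z, hz⟩ := CAlgH3.EN.exists_local_preimage π hxV p
    refine ⟨W', hW'.trans hVW, hxW', tmul z (powSec (resM _ hW' k) q), ?_⟩
    refine (KoszTw.tensorMap_tmul _ _ _ _ _).trans ?_
    rw [← resM_resM _ hVW hW', hp, resM_tmul, resM_powSec, ← hz]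
    rfl
  refine nonempty_resD_iso ID (θ.hom ≫ T₀) ?_ fun W x hx s hs => ?_
  · intro U a ha s₀
    let s : Γ(CohB1.tensorMod (CD.K.homology q) (CohB1.tensorPow (ClSub.idealMod I) q), U.1) := s₀
    show a • s = 0
    refine sec_ext (M := CohB1.tensorMod (CD.K.homology q) (CohB1.tensorPow (ClSub.idealMod I) q)) fun x hx => ?_
    obtain ⟨V, hxV, hVU, ⟨k, hk, -⟩, kD, hkD, haD⟩ := hchart U.1 x hx
    obtain ⟨p, hp⟩ := exists_tmul_powSec hk q (resM _ hVU s)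
    obtain ⟨W₁, hW₁, hxW₁, z, hz⟩ := CAlgH3.EN.exists_local_preimage π hxV p
    obtain ⟨V₁, hV₁, hxV₁, hV₁W⟩ := Opens.isBasis_iff_nbhd.mp X.isBasis_affineOpens hxW₁
    have hV : V₁ ≤ V.1 := hV₁W.trans hW₁
    obtain ⟨hkD₁, haD₁⟩ := gen_restrict ID (V := ⟨V₁, hV₁⟩) hV hkD haD
    obtain ⟨-, -, -, -, hD', -⟩ := chart_copies CD q φ ΨD hΨD hkD₁ haD₁
    obtain ⟨w, hw⟩ := hD' hn (resM _ hV₁W z)
    obtain ⟨r, hr⟩ : ∃ r, r * ival ID V₁ (resM _ hV kD) = res (hV.trans hVU) a := by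
      have hmem : res (hV.trans hVU) a ∈ ID.ideal ⟨V₁, hV₁⟩ :=
        (ID.map_ideal (U := ⟨V₁, hV₁⟩) (V := U) (hV.trans hVU)).le (Ideal.mem_map_of_mem _ ha)
      rw [ideal_eq_span ID (V := ⟨V₁, hV₁⟩) hkD₁] at hmem
      exact Ideal.mem_span_singleton'.1 hmem
    refine ⟨V₁, hV.trans hVU, hxV₁, ?_⟩
    have hp' : resM _ hV p = π.app V₁ (resM _ hV₁W z) := by
      rw [app_resM, hz, resM_resM]
    rw [map_zero]
    refine (resM_smul _ _ a s).trans ?_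
    rw [← resM_resM _ hVU hV, hp, resM_tmul, hp', ← tmul_smul_left, ← hr, mul_smul,
      ← Scheme.Modules.Hom.app_smul, ← hw, ← app_comp_apply, HomologicalComplex.toCycles_comp_homologyπ]
    exact (congrArg (fun m => tmul m _) (smul_zero r)).trans (tmul_zero_left _)
  · obtain ⟨V, hxV, hVW, ⟨k, hk, -⟩, kD, hkD, haD⟩ := hchart W x hx
    obtain ⟨zD, hzD⟩ := exists_tmul_powSec hk q (θ.hom.app V.1 (resM _ hVW s))
    have h0 : π.app V.1 zD = 0 := by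
      refine tmul_powSec_eq_zero hk q ?_
      refine (KoszTw.tensorMap_tmul π (𝟙 (CohB1.tensorPow (ClSub.idealMod I) q)) V.1 zD (powSec k q)).symm.trans ?_
      refine (congrArg (T₀.app V.1) hzD.symm).trans ?_
      rw [← app_comp_apply, app_resM, hs, map_zero]
    obtain ⟨W₁, hW₁, hxW₁, w, hw⟩ := exists_preimage _ _ _ hexC zD h0 hxV
    obtain ⟨V₁, hV₁, hxV₁, hV₁W⟩ := Opens.isBasis_iff_nbhd.mp X.isBasis_affineOpens hxW₁
    have hV : V₁ ≤ V.1 := hV₁W.trans hW₁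
    obtain ⟨hkD₁, haD₁⟩ := gen_restrict ID (V := ⟨V₁, hV₁⟩) hV hkD haD
    obtain ⟨-, -, -, hB, -, -⟩ := chart_copies CD q φ ΨD hΨD hkD₁ haD₁
    obtain ⟨z₁, hz₁⟩ := hB (resM _ hV₁W w)
    refine ⟨V₁, hV.trans hVW, hxV₁, ?_⟩
    let s₁ := θ.inv.app V₁ (tmul z₁ (powSec (resM _ hV k) q))
    have e : resM _ (hV.trans hVW) s = ival ID V₁ (resM _ hV kD) • s₁ := by
      have hh : θ.hom.app V₁ (resM _ (hV.trans hVW) s) =
          ival ID V₁ (resM _ hV kD) • tmul z₁ (powSec (resM _ hV k) q) := by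
        rw [← resM_resM _ hVW hV, app_resM, hzD, resM_tmul, resM_powSec, ← tmul_smul_left]
        refine congrArg (fun m => tmul m (powSec (resM _ hV k) q)) ?_
        refine Eq.trans ?_ hz₁
        rw [app_resM, hw, resM_resM]
      have hcancel : ∀ t, θ.inv.app V₁ (θ.hom.app V₁ t) = t := fun t => by
        rw [← app_comp_apply, θ.hom_inv_id]; rfl
      rw [← hcancel (resM _ (hV.trans hVW) s), hh, Scheme.Modules.Hom.app_smul]
    rw [e]
    exact clUnit_smul_zero ID _ ⟨V₁, hV₁⟩ (ival_mem ID ⟨V₁, hV₁⟩ _) s₁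

end Groth.Agent.InjMod14.Kosz
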