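import Groth.Agent.InjMod14.Kosz.Twist
import Groth.Agent.Coherent.ClosedEquiv
import Groth.Agent.Coherent.QcohOps
import Groth.Agent.FlatMor12.IdealModGen
import Groth.Agent.CAlgH3.EN.Support
import Groth.Prelude.Def_BlowUp2
import Groth.Prelude.Def_ClSub2

/-!
# Restriction to a Cartier divisor through sections

* local-section criteria (`exists_preimage`, `mono_of_affine_nbhds`, `pullback_sections_ext`);
* `jmul`, `clUnit_smul_zero`, `exists_smul_of_clUnit_eq_zero`, `exists_clUnit_eq`: the kernel of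
  `M → i_* i^* M` is `J M`;
* `idealPowι`: the inclusion `J^{⊗ q} → O_X`.
-/

set_option autoImplicit false
set_option backward.isDefEq.respectTransparency false
set_option backward.isDefEq.respectTransparency.types false

universe u

open CategoryTheory CategoryTheory.Limits AlgebraicGeometry Opposite TopologicalSpace
open Groth.Agent Groth.Agent.Coherent Groth.Agent.PicLib Groth.Agent.AmpleLib

namespace Groth.Agent.InjMod14.Kosz

variable {X : Scheme.{u}}

theorem app_comp_apply {A B C : X.Modules} (f : A ⟶ B) (g : B ⟶ C) (U : X.Opens) (a : Γ(A, U)) :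
    (f ≫ g).app U a = g.app U (f.app U a) := rfl

/-- In an exact sequence a cycle section is locally a boundary. -/
theorem exists_preimage {A B C : X.Modules} (f : A ⟶ B) (g : B ⟶ C) (w : f ≫ g = 0)
    (h : (ShortComplex.mk f g w).Exact) {U : X.Opens} (m : Γ(B, U)) (hm : g.app U m = 0) {x : X} (hx : x ∈ U) :
    ∃ (W : X.Opens) (hW : W ≤ U), x ∈ W ∧ ∃ a, f.app W a = resM B hW m := by
  haveI : Epi (kernel.lift g f w) := (ShortComplex.mk f g w).exact_iff_epi_kernel_lift.1 h
  obtain ⟨k, hk⟩ := kernel_sections_exact g m hm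
  obtain ⟨W, hW, hxW, a, ha⟩ := CAlgH3.EN.exists_local_preimage (kernel.lift g f w) hx k
  refine ⟨W, hW, hxW, a, ?_⟩
  rw [← hk, ← app_resM, ← ha, ← app_comp_apply, kernel.lift_ι]

theorem mono_of_affine_nbhds {A B : X.Modules} (φ : A ⟶ B)
    (h : ∀ (W : X.Opens) (x : X), x ∈ W → ∃ V : X.affineOpens, x ∈ V.1 ∧ V.1 ≤ W ∧ Function.Injective (φ.app V.1)) :
    Mono φ := by
  refine Preadditive.mono_of_cancel_zero _ fun {P} k hk => Scheme.Modules.hom_ext _ _ fun U => ?_
  refine ConcreteCategory.hom_ext _ _ fun a => ?_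
  refine sec_ext fun x hx => ?_
  obtain ⟨V, hxV, hVU, hinj⟩ := h U x hx
  refine ⟨V.1, hVU, hxV, hinj ?_⟩
  have h0 : φ.app U (k.app U a) = 0 := ConcreteCategory.congr_hom (congrArg (fun ψ => ψ.app U) hk) a
  show φ.app V.1 (resM A hVU (k.app U a)) = φ.app V.1 (resM A hVU 0)
  rw [app_resM, h0, app_resM]
  simp only [map_zero]

theorem hom_ext_local {A B : X.Modules} (φ ψ : A ⟶ B)
    (h : ∀ (W : X.Opens) (x : X), x ∈ W → ∃ V : X.affineOpens, x ∈ V.1 ∧ V.1 ≤ W ∧
      ∀ a : Γ(A, V.1), φ.app V.1 a = ψ.app V.1 a) : φ = ψ := by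
  refine Scheme.Modules.hom_ext _ _ fun U => ConcreteCategory.hom_ext _ _ fun a => ?_
  refine sec_ext fun x hx => ?_
  obtain ⟨V, hxV, hVU, hV⟩ := h U x hx
  exact ⟨V.1, hVU, hxV, by rw [← app_resM, ← app_resM]; exact hV _⟩

/-- Sections of a fibre product are detected by the two projections. -/
theorem pullback_sections_ext {A B C : X.Modules} (f : A ⟶ C) (g : B ⟶ C) {U : X.Opens}
    (s s' : Γ(pullback f g, U)) (h₁ : (pullback.fst f g).app U s = (pullback.fst f g).app U s')
    (h₂ : (pullback.snd f g).app U s = (pullback.snd f g).app U s') : s = s' := by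
  rw [← sub_eq_zero] at h₁ h₂ ⊢
  rw [← map_sub] at h₁ h₂
  obtain ⟨t, ht⟩ := kernel_sections_exact (pullback.snd f g) _ h₂
  haveI : Mono (kernel.ι (pullback.snd f g) ≫ pullback.fst f g) :=
    Preadditive.mono_of_cancel_zero _ fun {P} k hk => by
      rw [← cancel_mono (kernel.ι (pullback.snd f g)), Limits.zero_comp]
      refine pullback.hom_ext ?_ ?_
      · rw [Category.assoc, hk, Limits.zero_comp]
      · rw [Category.assoc, kernel.condition, Limits.comp_zero, Limits.zero_comp]
  rw [← ht] at h₁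
  have ht0 : t = 0 := app_injective_of_mono (kernel.ι (pullback.snd f g) ≫ pullback.fst f g) U
    (h₁.trans (map_zero ((kernel.ι (pullback.snd f g) ≫ pullback.fst f g).app U).hom).symm)
  rw [← ht, ht0, map_zero]

variable (J : X.IdealSheafData)

/-- The value of the inclusion of an ideal module. -/
noncomputable def ival (U : X.Opens) (k : Γ(ClSub.idealMod J, U)) : Γ(X, U) := (ClSub.idealModι J).app U k

theorem ival_mem (U : X.affineOpens) (k : Γ(ClSub.idealMod J, U.1)) : ival J U.1 k ∈ J.ideal U := by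
  rw [← J.ker_subschemeι_app U, RingHom.mem_ker]
  exact (mem_range_idealModι J U.1 _).1 ⟨k, rfl⟩

theorem exists_ival (U : X.affineOpens) {a : Γ(X, U.1)} (ha : a ∈ J.ideal U) : ∃ k, ival J U.1 k = a :=
  (mem_range_idealModι J U.1 a).2 (RingHom.mem_ker.1 ((J.ker_subschemeι_app U).symm ▸ ha))

/-- Multiplication by sections of the ideal. -/
noncomputable def jmul (M : X.Modules) : CohB1.tensorMod M (ClSub.idealMod J) ⟶ M :=
  KoszTw.tensorMap (𝟙 M) (ClSub.idealModι J) ≫ (SecTwist.unitorR M).hom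

theorem jmul_tmul (M : X.Modules) (U : X.Opens) (m : Γ(M, U)) (k : Γ(ClSub.idealMod J, U)) :
    (jmul J M).app U (tmul m k) = ival J U k • m := by
  show (SecTwist.unitorR M).hom.app U ((KoszTw.tensorMap (𝟙 M) (ClSub.idealModι J)).app U _) = _
  refine (congrArg ((SecTwist.unitorR M).hom.app U) (KoszTw.tensorMap_tmul _ _ _ _ _)).trans ?_
  exact SecTwist.unitorR_tmul M U m ((ClSub.idealModι J).app U k)

/-- The unit kills the ideal. -/
theorem clUnit_smul_zero (M : X.Modules) (U : X.affineOpens) {a : Γ(X, U.1)} (ha : a ∈ J.ideal U)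
    (m : Γ(M, U.1)) : (clUnit J.subschemeι M).app U.1 (a • m) = 0 := by
  rw [Scheme.Modules.Hom.app_smul]
  have h0 : J.subschemeι.app U.1 a = 0 := RingHom.mem_ker.1 ((J.ker_subschemeι_app U).symm ▸ ha)
  show J.subschemeι.app U.1 a • (show Γ((Scheme.Modules.pullback J.subschemeι).obj M, J.subschemeι ⁻¹ᵁ U.1) from (clUnit J.subschemeι M).app U.1 m) = 0
  rw [h0, zero_smul]

theorem killedBy_cokernel_jmul (M : X.Modules) : ClSub.KilledByIdeal J.subschemeι.ker (cokernel (jmul J M)) := by
  rw [Scheme.IdealSheafData.ker_subschemeι]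
  intro U a ha q
  refine sec_ext fun x hx => ?_
  obtain ⟨W, hW, hxW, m, hm⟩ := CAlgH3.EN.exists_local_preimage (cokernel.π (jmul J M)) hx q
  refine ⟨W, hW, hxW, ?_⟩
  obtain ⟨k, hk⟩ := exists_ival J U ha
  have hres : ival J W (resM _ hW k) = X.presheaf.map (homOfLE hW).op (ival J U.1 k) :=
    app_resM (ClSub.idealModι J) hW k
  rw [map_zero, resM_smul, ← hm, ← Scheme.Modules.Hom.app_smul, ← hk, ← hres, ← jmul_tmul,
    ← app_comp_apply, cokernel.condition]
  rfl

/-- A section killed by the unit is locally a multiple of a generator of the ideal. -/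
theorem exists_smul_of_clUnit_eq_zero (M : X.Modules) {U : X.Opens} (m : Γ(M, U))
    (hm : (clUnit J.subschemeι M).app U m = 0) {V : X.Opens} (k : Γ(ClSub.idealMod J, V))
    (hk : IsGen (ClSub.idealMod J) V k) (hVU : V ≤ U) {x : X} (hx : x ∈ V) :
    ∃ (W : X.Opens) (hW : W ≤ V), x ∈ W ∧ ∃ m' : Γ(M, W),
      ival J W (resM _ hW k) • m' = resM M (hW.trans hVU) m := by
  let Q := cokernel (jmul J M)
  have h1 : (clUnit J.subschemeι Q).app U ((cokernel.π (jmul J M)).app U m) = 0 := by
    have := (Scheme.Modules.pullbackPushforwardAdjunction J.subschemeι).unit.naturality (cokernel.π (jmul J M))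
    refine (ConcreteCategory.congr_hom (congrArg (fun ψ => ψ.app U) this) m).trans ?_
    show (((Scheme.Modules.pullback J.subschemeι ⋙ Scheme.Modules.pushforward J.subschemeι).map
      (cokernel.π (jmul J M))).app U) ((clUnit J.subschemeι M).app U m) = 0
    rw [hm]
    exact map_zero _
  haveI := mono_clUnit J.subschemeι (killedBy_cokernel_jmul J M)
  have h2 : (cokernel.π (jmul J M)).app U m = 0 :=
    app_injective_of_mono (clUnit J.subschemeι Q) U (h1.trans (map_zero _).symm)
  obtain ⟨W, hW, hxW, a, ha⟩ := exists_preimage (jmul J M) (cokernel.π (jmul J M)) (cokernel.condition _)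
    (ShortComplex.exact_of_g_is_cokernel _ (cokernelIsCokernel _)) m h2 (hVU hx)
  have hb := bijective_tmul_gen (M := M) hk (W ⊓ V) inf_le_right
  obtain ⟨m', hm'⟩ := hb.2 (resM _ inf_le_left a)
  refine ⟨W ⊓ V, inf_le_right, ⟨hxW, hx⟩, m', ?_⟩
  rw [← jmul_tmul]
  refine (congrArg ((jmul J M).app _) hm').trans ?_
  rw [app_resM, ha, resM_resM]

/-- The unit is locally surjective. -/
theorem exists_clUnit_eq (M : X.Modules) {U : X.Opens}
    (a : Γ((Scheme.Modules.pushforward J.subschemeι).obj ((Scheme.Modules.pullback J.subschemeι).obj M), U))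
    {x : X} (hx : x ∈ U) : ∃ (W : X.Opens) (hW : W ≤ U), x ∈ W ∧ ∃ m : Γ(M, W),
      (clUnit J.subschemeι M).app W m = resM _ hW a := by
  haveI := epi_clUnit J.subschemeι (F := M)
  exact CAlgH3.EN.exists_local_preimage (clUnit J.subschemeι M) hx a

/-- The inclusion of a tensor power of the ideal. -/
noncomputable def idealPowι : ∀ q : ℕ, CohB1.tensorPow (ClSub.idealMod J) q ⟶ Coh.structureModule X
  | 0 => 𝟙 _
  | q + 1 => KoszTw.tensorMap (idealPowι q) (ClSub.idealModι J) ≫ (SecTwist.unitorR _).hom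

theorem idealPowι_powSec {U : X.Opens} (k : Γ(ClSub.idealMod J, U)) : ∀ q : ℕ,
    (show Γ(X, U) from (idealPowι J q).app U (powSec k q)) = ival J U k ^ q
  | 0 => (pow_zero _).symm
  | q + 1 => by
    show (SecTwist.unitorR _).hom.app U ((KoszTw.tensorMap (idealPowι J q) (ClSub.idealModι J)).app U _) = _
    refine (congrArg ((SecTwist.unitorR _).hom.app U) (KoszTw.tensorMap_tmul _ _ _ _ _)).trans ?_
    refine (SecTwist.unitorR_tmul _ U _ _).trans ?_
    exact (congrArg (fun t : Γ(X, U) => ival J U k * t) (idealPowι_powSec k q)).trans (pow_succ' _ _).symm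

/-- Multiplication by a tensor power of the ideal. -/
noncomputable def powMul (M : X.Modules) (q : ℕ) :
    CohB1.tensorMod M (CohB1.tensorPow (ClSub.idealMod J) q) ⟶ M :=
  KoszTw.tensorMap (𝟙 M) (idealPowι J q) ≫ (SecTwist.unitorR M).hom

theorem powMul_tmul (M : X.Modules) (q : ℕ) (U : X.Opens) (m : Γ(M, U)) (k : Γ(ClSub.idealMod J, U)) :
    (powMul J M q).app U (tmul m (powSec k q)) = ival J U k ^ q • m := by
  show (SecTwist.unitorR M).hom.app U ((KoszTw.tensorMap (𝟙 M) (idealPowι J q)).app U _) = _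
  refine (congrArg ((SecTwist.unitorR M).hom.app U) (KoszTw.tensorMap_tmul _ _ _ _ _)).trans ?_
  refine (SecTwist.unitorR_tmul M U _ _).trans ?_
  exact congrArg (fun t : Γ(X, U) => t • m) (idealPowι_powSec J k q)

end Groth.Agent.InjMod14.Kosz
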