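import Groth.Agent.InjMod14.Kosz.Basic
import Groth.Agent.InjMod14.Kosz.AffineHom

/-!
# Functoriality of Koszul complexes of sheaves

* `ext_loc`: additive semilinear maps agreeing on decomposable sections agree;
* `map_dGen`; `exists_powMap`: the exterior power of a morphism; `existsUnique_chainMap`.
-/

set_option autoImplicit false
set_option backward.isDefEq.respectTransparency false
set_option backward.isDefEq.respectTransparency.types false

universe u

open CategoryTheory CategoryTheory.Limits AlgebraicGeometry Opposite TopologicalSpace exteriorPower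
open Groth.Agent Groth.Agent.Coherent

namespace Groth.Agent.InjMod14.Kosz

variable {X : Scheme.{u}} {E F : X.Modules} {s : E ⟶ Coh.structureModule X} {t : F ⟶ Coh.structureModule X}

/-- Semilinear additive maps agreeing on decomposable sections agree. -/
theorem ext_loc (C : KoszSh.Cx E s) (p : ℕ) (U : X.affineOpens) {N : Type u} [AddCommGroup N]
    {R' : Type u} [CommRing R'] [Module R' N] (σ : Γ(X, U.1) →+* R')
    (a b : Γ(C.K.X p, U.1) → N) (ha : ∀ x y, a (x + y) = a x + a y) (hb : ∀ x y, b (x + y) = b x + b y)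
    (ha' : ∀ (r : Γ(X, U.1)) x, a (r • x) = σ r • a x) (hb' : ∀ (r : Γ(X, U.1)) x, b (r • x) = σ r • b x)
    (h : ∀ e : Fin p → Γ(E, U.1), a ((C.loc p U).symm (ιMulti _ p e)) = b ((C.loc p U).symm (ιMulti _ p e)))
    (z : Γ(C.K.X p, U.1)) : a z = b z := by
  suffices ∀ w, a ((C.loc p U).symm w) = b ((C.loc p U).symm w) by simpa using this (C.loc p U z)
  intro w
  have hw : w ∈ Submodule.span Γ(X, U.1) (Set.range (ιMulti Γ(X, U.1) p (M := Γ(E, U.1)))) := by
    rw [exteriorPower.ιMulti_span]; exact Submodule.mem_top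
  induction hw using Submodule.span_induction with
  | mem x hx => obtain ⟨e, rfl⟩ := hx; exact h e
  | zero =>
    have e0 : ∀ (c : Γ(C.K.X p, U.1) → N), (∀ x y, c (x + y) = c x + c y) → c 0 = 0 := fun c hc => by
      simpa using hc 0 0
    rw [map_zero, e0 a ha, e0 b hb]
  | add x y _ _ hx hy => rw [map_add, ha, hb, hx, hy]
  | smul r x _ hx => rw [map_smul, ha', hb', hx]

theorem hom_ext_loc (C : KoszSh.Cx E s) {p : ℕ} {M : X.Modules} (φ ψ : C.K.X p ⟶ M)
    (h : ∀ (U : X.affineOpens) (e : Fin p → Γ(E, U.1)),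
      φ.app U.1 ((C.loc p U).symm (ιMulti _ p e)) = ψ.app U.1 ((C.loc p U).symm (ιMulti _ p e))) : φ = ψ :=
  hom_ext_affine φ ψ fun U z => ext_loc C p U (RingHom.id _) _ _ (map_add _) (map_add _)
    (fun r x => Scheme.Modules.Hom.app_smul φ r x) (fun r x => Scheme.Modules.Hom.app_smul ψ r x) (h U) z

/-- Sections of a morphism as a linear map. -/
noncomputable def appLin (f : E ⟶ F) (U : X.Opens) : Γ(E, U) →ₗ[Γ(X, U)] Γ(F, U) where
  toFun := f.app U
  map_add' := map_add _
  map_smul' r a := Scheme.Modules.Hom.app_smul f r a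

/-- The boundary of a decomposable element is natural in the linear form. -/
theorem map_dGen {R : Type u} [CommRing R] {M N : Type u} [AddCommGroup M] [Module R M] [AddCommGroup N]
    [Module R N] (f : M →ₗ[R] N) (φ : M →ₗ[R] R) (ψ : N →ₗ[R] R) (h : ∀ m, ψ (f m) = φ m) (p : ℕ)
    (v : Fin (p + 1) → M) :
    exteriorPower.map p f (KoszSh.dGen φ p v) = KoszSh.dGen ψ p (fun j => f (v j)) := by
  unfold KoszSh.dGen
  rw [map_sum]
  refine Finset.sum_congr rfl fun i _ => ?_
  rw [map_smul, exteriorPower.map_apply_ιMulti, h]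
  rfl

/-- The exterior power of a morphism between terms of Koszul complexes. -/
theorem exists_powMap (C : KoszSh.Cx E s) (D : KoszSh.Cx F t) (f : E ⟶ F) (p : ℕ) :
    ∃ φ : C.K.X p ⟶ D.K.X p, ∀ (U : X.affineOpens) (z : Γ(C.K.X p, U.1)),
      φ.app U.1 z = (D.loc p U).symm (exteriorPower.map p (appLin f U.1) (C.loc p U z)) := by
  refine exists_hom_of_affine _ _ (fun U => (D.loc p U).symm.toLinearMap ∘ₗ exteriorPower.map p (appLin f U.1) ∘ₗ
    (C.loc p U).toLinearMap) fun U V h z => ?_
  refine ext_loc (N := Γ(D.K.X p, V.1)) (R' := Γ(X, V.1)) C p U (X.presheaf.map (homOfLE h).op).hom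
    (fun w => ((D.loc p V).symm.toLinearMap ∘ₗ exteriorPower.map p (appLin f V.1) ∘ₗ (C.loc p V).toLinearMap) (resM (C.K.X p) h w))
    (fun w => resM (D.K.X p) h (((D.loc p U).symm.toLinearMap ∘ₗ exteriorPower.map p (appLin f U.1) ∘ₗ (C.loc p U).toLinearMap) w))
    ?_ ?_ ?_ ?_ (fun e => ?_) z
  · intro x y; simp only [map_add]
  · intro x y; simp only [map_add]
  · intro r x
    rw [resM_smul, map_smul]
  · intro r x
    rw [map_smul, resM_smul]
  · simp only [LinearMap.comp_apply, LinearEquiv.coe_coe, LinearEquiv.apply_symm_apply,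
      exteriorPower.map_apply_ιMulti]
    erw [C.loc_res p U V h e, D.loc_res p U V h]
    rw [LinearEquiv.apply_symm_apply, exteriorPower.map_apply_ιMulti]
    exact congrArg (fun w => (D.loc p V).symm (ιMulti _ p w)) (funext fun j => app_resM f h (e j))

theorem secForm_app (f : E ⟶ F) (hf : f ≫ t = s) (U : X.Opens) (m : Γ(E, U)) :
    KoszSh.secForm t U (appLin f U m) = KoszSh.secForm s U m := by
  rw [← hf]; rfl

/-- The chain map induced by a morphism of cosections. -/
theorem existsUnique_chainMap (C : KoszSh.Cx E s) (D : KoszSh.Cx F t) (f : E ⟶ F) (hf : f ≫ t = s) :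
    ∃! φ : C.K ⟶ D.K, ∀ (p : ℕ) (U : X.affineOpens) (e : Fin p → Γ(E, U.1)),
      (φ.f p).app U.1 ((C.loc p U).symm (exteriorPower.ιMulti _ p e)) =
        (D.loc p U).symm (exteriorPower.ιMulti _ p (fun j => f.app U.1 (e j))) := by
  choose φ hφ using exists_powMap C D f
  have hι : ∀ (p : ℕ) (U : X.affineOpens) (e : Fin p → Γ(E, U.1)),
      (φ p).app U.1 ((C.loc p U).symm (ιMulti _ p e)) = (D.loc p U).symm (ιMulti _ p (fun j => f.app U.1 (e j))) := by
    intro p U e
    rw [hφ, LinearEquiv.apply_symm_apply, exteriorPower.map_apply_ιMulti]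
    rfl
  have hcomm : ∀ i, φ (i + 1) ≫ D.K.d (i + 1) i = C.K.d (i + 1) i ≫ φ i := fun i => by
    refine hom_ext_loc C _ _ fun U e => ?_
    show (D.K.d (i + 1) i).app U.1 ((φ (i + 1)).app U.1 _) = (φ i).app U.1 ((C.K.d (i + 1) i).app U.1 _)
    rw [hι, D.rule, C.rule, hφ, LinearEquiv.apply_symm_apply, map_dGen _ _ _ (secForm_app f hf U.1)]
    rfl
  refine ⟨{ f := φ, comm' := fun i j hij => ?_ }, fun p U e => hι p U e, fun ψ hψ => ?_⟩
  · obtain rfl : i = j + 1 := (ComplexShape.down_Rel ℕ i j ▸ hij : j + 1 = i).symm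
    exact hcomm j
  · exact HomologicalComplex.hom_ext _ _ fun p => hom_ext_loc C _ _ fun U e => (hψ p U e).trans (hι p U e).symm

end Groth.Agent.InjMod14.Kosz
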