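import Groth.Agent.Disc12.Koszul.Regular
import Mathlib.RingTheory.Regular.RegularSequence

/-!
# Torsion in the homology of a Koszul complex of redundant generators

`torsionFree_of_span_eq`: if `f` generates an ideal generated by a weakly regular sequence `g` and `x` is
regular modulo that ideal, then `x` is regular on every homology module of the Koszul complex of `f`.
-/

set_option autoImplicit false
set_option backward.isDefEq.respectTransparency false

universe u

open ExteriorAlgebra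

namespace Groth.Agent.InjMod14.Kosz

open Groth.Agent.Disc12.Koszul

variable {R : Type u} [CommRing R] {n : ℕ}

/-- `x` is regular on the homology of the Koszul complex of `f`. -/
def TorsionFree (x : R) (f : Fin n → R) : Prop :=
  ∀ (q : ℕ) (z w : ExteriorAlgebra R (Fin n → R)), z ∈ ⋀[R]^q (Fin n → R) → w ∈ ⋀[R]^(q + 1) (Fin n → R) →
    D (functional f) z = 0 → D (functional f) w = x • z →
      ∃ u ∈ ⋀[R]^(q + 1) (Fin n → R), D (functional f) u = z

theorem torsionFree_of_regular {x : R} {g : Fin n → R}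
    (hg : RingTheory.Sequence.IsWeaklyRegular R (List.ofFn g))
    (hx : ∀ r, x * r ∈ Ideal.span (Set.range g) → r ∈ Ideal.span (Set.range g)) : TorsionFree x g := by
  have hreg := exactUpTo_of_regular (1 : R) g fun i r hr => by
    refine ⟨0, ?_⟩
    rw [pow_zero, one_mul]
    have hi := (RingTheory.Sequence.isWeaklyRegular_iff _ _).1 hg i.1 (by simp)
    rw [List.getElem_ofFn] at hi
    have hspan : (Ideal.ofList ((List.ofFn g).take i.1) • ⊤ : Submodule R R) =
        Ideal.span (g '' Set.Iio i) := by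
      rw [smul_eq_mul, Ideal.mul_top, Ideal.ofList]
      refine congrArg Ideal.span (Set.ext fun a => ?_)
      simp only [Set.mem_ofPred_eq, List.mem_take_iff_getElem, List.getElem_ofFn, List.length_ofFn, Set.mem_image,
        Set.mem_Iio]
      constructor
      · rintro ⟨j, hj, rfl⟩
        exact ⟨⟨j, by omega⟩, show j < i.1 by omega, rfl⟩
      · rintro ⟨j, hj, rfl⟩
        exact ⟨j.1, by have : j.1 < i.1 := hj; omega, rfl⟩
    rw [hspan] at hi
    refine (Submodule.Quotient.mk_eq_zero _).1 (hi (?_ : g ⟨i.1, i.2⟩ • Submodule.Quotient.mk r = g ⟨i.1, i.2⟩ • 0))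
    rw [smul_zero, ← Submodule.Quotient.mk_smul, Submodule.Quotient.mk_eq_zero]
    exact hr
  rintro (_ | p) z w hz hw hDz hDw
  · obtain ⟨r, hr⟩ := e0_surjective (⟨z, hz⟩ : K R n 0)
    have hmem : (e0 (x * r) : K R n 0) ∈ LinearMap.range (d g 0) := by
      refine ⟨⟨w, hw⟩, Subtype.ext ?_⟩
      rw [coe_d, hDw, ← smul_eq_mul, map_smul, Submodule.coe_smul, hr]
    rw [range_d_zero] at hmem
    obtain ⟨s, hs, hsr⟩ := hmem
    have hinj : s = x * r :=
      (ExteriorAlgebra.algebraMap_leftInverse (Fin n → R)).injective (congrArg Subtype.val hsr)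
    obtain ⟨u, hu⟩ := (range_d_zero g).ge ⟨r, hx r (hinj ▸ hs), rfl⟩
    exact ⟨u.1, u.2, (congrArg Subtype.val hu).trans (congrArg Subtype.val hr)⟩
  · obtain ⟨k, y, hy⟩ := hreg p ⟨z, hz⟩ (Subtype.ext hDz)
    refine ⟨y.1, y.2, (congrArg Subtype.val hy).trans ?_⟩
    show ((1 : R) ^ k) • z = z
    rw [one_pow, one_smul]

theorem ι_mul_mem {p : ℕ} (v : Fin n → R) {a : ExteriorAlgebra R (Fin n → R)} (ha : a ∈ ⋀[R]^p (Fin n → R)) :
    ι R v * a ∈ ⋀[R]^(p + 1) (Fin n → R) := by
  rw [exteriorPower, pow_succ']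
  exact Submodule.mul_mem_mul ⟨_, rfl⟩ ha

/-- Adjoining a redundant element. -/
theorem TorsionFree.cons {x : R} {f : Fin n → R} (h : TorsionFree x f) {f₀ : R}
    (h₀ : f₀ ∈ Ideal.span (Set.range f)) : TorsionFree x (Fin.cons f₀ f) := by
  obtain ⟨v, hv⟩ : ∃ v, functional f v = f₀ := by
    obtain ⟨v, hv⟩ := (Ideal.mem_span_range_iff_exists_fun).1 h₀
    exact ⟨v, by rw [functional_apply]; exact hv⟩
  have hDι : ∀ y, D (functional f) (ι R v * y) = f₀ • y - ι R v * D (functional f) y := fun y => by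
    rw [D_ι_mul, hv]
  have stepB : ∀ (q : ℕ) (a b a₁ b₁ a₂ : ExteriorAlgebra R (Fin n → R)),
      b + ι R v * a ∈ ⋀[R]^q (Fin n → R) → a₁ ∈ ⋀[R]^q (Fin n → R) → b₁ ∈ ⋀[R]^(q + 1) (Fin n → R) →
      a₂ ∈ ⋀[R]^q (Fin n → R) → -D (functional f) a₂ = a → D (functional f) a = 0 →
      f₀ • a + D (functional f) b = 0 → -D (functional f) a₁ = x • a → f₀ • a₁ + D (functional f) b₁ = x • b →
      ∃ b₃ ∈ ⋀[R]^(q + 1) (Fin n → R), f₀ • a₂ + D (functional f) b₃ = b := by
    intro q a b a₁ b₁ a₂ hb ha₁ hb₁ ha₂ h2 hDa hDb h1a h1b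
    obtain ⟨u, hu, hDu⟩ := h q (b + ι R v * a) (b₁ + ι R v * a₁) hb
      (Submodule.add_mem _ hb₁ (ι_mul_mem v ha₁))
      (by rw [map_add, hDι, hDa, mul_zero, sub_zero, add_comm, hDb])
      (by
        rw [map_add, hDι, smul_add, ← mul_smul_comm, ← h1b, ← h1a, mul_neg]
        abel)
    refine ⟨u - ι R v * a₂, Submodule.sub_mem _ hu (ι_mul_mem v ha₂), ?_⟩
    rw [map_sub, hDu, hDι, ← h2, mul_neg]
    abel
  rintro (_ | p) z w hz hw hDz hDw
  · obtain ⟨⟨a₁, b₁⟩, ⟨ha₁, hb₁⟩, rfl⟩ := (range_step 0).ge hw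
    rw [exteriorPower, pow_zero] at hz
    obtain ⟨r, rfl⟩ := Submodule.mem_one.1 hz
    have e : algebraMap R (ExteriorAlgebra R (Fin (n + 1) → R)) r = step (0, algebraMap R _ r) := by
      rw [step_apply, map_zero, mul_zero, zero_add, AlgHom.commutes]
    rw [e, D_step, ← map_smul, step_injective.eq_iff, Prod.smul_mk, Prod.mk.injEq] at hDw
    obtain ⟨b₃, hb₃, h3⟩ := stepB 0 0 (algebraMap R _ r) a₁ b₁ 0
      (by rw [mul_zero, add_zero, exteriorPower, pow_zero]; exact Submodule.algebraMap_mem r) ha₁ hb₁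
      (Submodule.zero_mem _) (by rw [map_zero, neg_zero]) (map_zero _)
      (by rw [smul_zero, zero_add, D_algebraMap]) hDw.1 hDw.2
    refine ⟨step (0, b₃), (range_step 0).le ⟨(0, b₃), ⟨Submodule.zero_mem _, hb₃⟩, rfl⟩, ?_⟩
    rw [D_step, e, map_zero, neg_zero, h3]
  · obtain ⟨⟨a₁, b₁⟩, ⟨ha₁, hb₁⟩, rfl⟩ := (range_step (p + 1)).ge hw
    obtain ⟨⟨a, b⟩, ⟨ha, hb⟩, rfl⟩ := (range_step p).ge hz
    rw [D_step, LinearMap.map_eq_zero_iff _ step_injective, Prod.mk_eq_zero, neg_eq_zero] at hDz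
    rw [D_step, ← map_smul, step_injective.eq_iff, Prod.smul_mk, Prod.mk.injEq] at hDw
    obtain ⟨u, hu, hDu⟩ := h p a (-a₁) ha (Submodule.neg_mem _ ha₁) hDz.1 (by rw [map_neg]; exact hDw.1)
    obtain ⟨b₃, hb₃, h3⟩ := stepB (p + 1) a b a₁ b₁ (-u) (Submodule.add_mem _ hb (ι_mul_mem v ha)) ha₁ hb₁
      (Submodule.neg_mem _ hu) (by rw [map_neg, neg_neg, hDu]) hDz.1 hDz.2 hDw.1 hDw.2
    refine ⟨step (-u, b₃), (range_step (p + 1)).le ⟨(-u, b₃), ⟨Submodule.neg_mem _ hu, hb₃⟩, rfl⟩, ?_⟩
    rw [D_step, h3, map_neg, neg_neg, hDu]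

/-- A retract of a sequence with torsion free homology. -/
theorem TorsionFree.of_retract {m : ℕ} {x : R} {F : Fin m → R} (h : TorsionFree x F) {f : Fin n → R}
    (α : (Fin n → R) →ₗ[R] (Fin m → R)) (β : (Fin m → R) →ₗ[R] (Fin n → R))
    (hα : functional F ∘ₗ α = functional f) (hβ : functional f ∘ₗ β = functional F)
    (hβα : β ∘ₗ α = LinearMap.id) : TorsionFree x f := by
  intro q z w hz hw hDz hDw
  obtain ⟨u, hu, hDu⟩ := h q (map α z) (map α w) (map_mem α q hz) (map_mem α _ hw)
    (by rw [D_map, hα, hDz, map_zero]) (by rw [D_map, hα, hDw, map_smul])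
  refine ⟨map β u, map_mem β _ hu, ?_⟩
  rw [D_map, hβ, hDu, ← AlgHom.comp_apply, map_comp_map, hβα, map_id]
  rfl

theorem torsionFree_of_span_eq {c : ℕ} {x : R} {f : Fin n → R} {g : Fin c → R}
    (hg : RingTheory.Sequence.IsWeaklyRegular R (List.ofFn g))
    (hfg : Ideal.span (Set.range f) = Ideal.span (Set.range g))
    (hx : ∀ r, x * r ∈ Ideal.span (Set.range g) → r ∈ Ideal.span (Set.range g)) : TorsionFree x f := by
  have hgf : ∀ i, ∃ v, functional f v = g i := fun i => by
    obtain ⟨v, hv⟩ := Ideal.mem_span_range_iff_exists_fun.1 (hfg.ge (Ideal.subset_span ⟨i, rfl⟩))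
    exact ⟨v, by rw [functional_apply]; exact hv⟩
  choose b hb using hgf
  have key : ∀ (m : ℕ) (σ : Fin m → Fin n), ∃ (N : ℕ) (F : Fin N → R) (α : (Fin m → R) →ₗ[R] (Fin N → R))
      (β : (Fin N → R) →ₗ[R] (Fin n → R)), TorsionFree x F ∧ Ideal.span (Set.range g) ≤ Ideal.span (Set.range F) ∧
        functional F ∘ₗ α = functional (f ∘ σ) ∧ functional f ∘ₗ β = functional F ∧
        ∀ v, β (α v) = ∑ i, v i • Pi.single (σ i) (1 : R) := by
    intro m
    induction m with
    | zero =>
      intro σ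
      refine ⟨c, g, 0, Fintype.linearCombination R b, torsionFree_of_regular hg hx, le_rfl,
        LinearMap.ext fun v => by simp, LinearMap.ext fun v => ?_, fun v => by simp⟩
      rw [LinearMap.comp_apply, Fintype.linearCombination_apply, map_sum, functional_apply g]
      exact Finset.sum_congr rfl fun i _ => by rw [map_smul, hb, smul_eq_mul]
    | succ m ih =>
      intro σ
      obtain ⟨N, F, α, β, hT, hspan, hα, hβ, hβα⟩ := ih fun i => σ i.succ
      have hmem : f (σ 0) ∈ Ideal.span (Set.range F) := hspan (hfg.le (Ideal.subset_span ⟨_, rfl⟩))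
      refine ⟨N + 1, Fin.cons (f (σ 0)) F,
        (LinearMap.proj 0).smulRight (Pi.single 0 1) + incl ∘ₗ α ∘ₗ proj,
        (LinearMap.proj 0).smulRight (Pi.single (σ 0) 1) + β ∘ₗ proj, hT.cons hmem,
        hspan.trans (Ideal.span_mono ?_), LinearMap.ext fun v => ?_, LinearMap.ext fun v => ?_, fun v => ?_⟩
      · rintro _ ⟨i, rfl⟩
        exact ⟨i.succ, Fin.cons_succ _ _ i⟩
      · have h1 := LinearMap.congr_fun hα (proj v)
        simp only [LinearMap.comp_apply] at h1
        simp only [LinearMap.comp_apply, LinearMap.add_apply, LinearMap.smulRight_apply, LinearMap.proj_apply,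
          map_add, map_smul, functional_single, Fin.cons_zero]
        rw [← LinearMap.comp_apply (functional (Fin.cons (f (σ 0)) F)) incl, functional_comp_incl, h1,
          functional_apply, functional_apply, Fin.sum_univ_succ]
        rfl
      · have h1 := LinearMap.congr_fun hβ (proj v)
        simp only [LinearMap.comp_apply] at h1
        simp only [LinearMap.comp_apply, LinearMap.add_apply, LinearMap.smulRight_apply, LinearMap.proj_apply,
          map_add, map_smul, functional_single]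
        rw [h1, functional_apply, functional_apply, Fin.sum_univ_succ]
        simp [proj, LinearMap.funLeft_apply]
      · have h0 : proj (R := R) (n := N) (Pi.single 0 1) = 0 :=
          funext fun i => by simp [proj, LinearMap.funLeft_apply, Fin.succ_ne_zero]
        have h1 : ∀ y, proj (R := R) (n := N) (incl y) = y := fun y => LinearMap.congr_fun proj_incl y
        simp only [LinearMap.comp_apply, LinearMap.add_apply, LinearMap.smulRight_apply, LinearMap.proj_apply,
          map_add, map_smul, h0, smul_zero, zero_add, h1, hβα, Fin.sum_univ_succ]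
        simp [proj, incl, LinearMap.funLeft_apply]
  obtain ⟨N, F, α, β, hT, -, hα, hβ, hβα⟩ := key n id
  refine hT.of_retract α β hα hβ (LinearMap.ext fun v => (hβα v).trans ?_)
  exact (pi_eq_sum_univ' v).symm

end Groth.Agent.InjMod14.Kosz
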