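import Groth.Agent.InjMod14.Kosz.Twisted
import Groth.Agent.InjMod14.Kosz.Torsion
import Groth.Agent.BlowUpKoszul.StalkApps
import Groth.Agent.CAlgH3.CohenMacaulay
import Groth.Agent.CAlgH3.RegularCore
import Groth.Agent.VarietyLib.SmoothStalk
import Groth.Prelude.Def_RegImm

/-!
# Regularity on the homology of the Koszul complex of a local complete intersection

`isSMulRegular_homology`: on a Cohen–Macaulay scheme, if the intersection of the `Y_i` is regularly immersed
and `D` contains none of its components, an equation of `D` is regular on the Koszul homology of the `Y_i`.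
-/

set_option autoImplicit false
set_option backward.isDefEq.respectTransparency false
set_option backward.isDefEq.respectTransparency.types false

universe u

open CategoryTheory CategoryTheory.Limits AlgebraicGeometry Opposite TopologicalSpace
open Groth.Agent Groth.Agent.Coherent Groth.Agent.PicLib Groth.Agent.AmpleLib

namespace Groth.Agent.InjMod14.Kosz

variable {X : Scheme.{u}} {n : ℕ} {IY : Fin n → X.IdealSheafData} {ID : X.IdealSheafData}

/-- Associated primes of a Cohen–Macaulay ring are minimal. -/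
theorem eq_of_le_of_associated {B : Type u} [CommRing B] [LocCoh.IsCohenMacaulayRing B] {P Q : Ideal B}
    [Q.IsPrime] (hP : P ∈ associatedPrimes B B) (hQP : Q ≤ P) : Q = P := by
  haveI := IsAssociatedPrime.isPrime hP
  haveI := LocCoh.IsCohenMacaulayRing.isCohenMacaulayLocalRing_localization (R := B) P
  have hm : IsLocalRing.maximalIdeal (Localization.AtPrime P) ∈
      associatedPrimes (Localization.AtPrime P) (Localization.AtPrime P) :=
    Module.associatedPrimes.mem_associatedPrimes_of_comap_mem_associatedPrimes_of_isLocalizedModule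
      P.primeCompl (Algebra.linearMap B (Localization.AtPrime P)) _
      (by simpa [Localization.AtPrime.under_maximalIdeal] using hP)
  haveI hQ' : (Q.map (algebraMap B (Localization.AtPrime P))).IsPrime :=
    IsLocalization.isPrime_of_isPrime_disjoint P.primeCompl _ Q inferInstance
      (Set.disjoint_left.2 fun a ha ha' => ha (hQP ha'))
  have h := CAlgH3.eq_of_le_of_mem_associatedPrimes (R := Localization.AtPrime P) (M := Localization.AtPrime P)
    LocCoh.IsCohenMacaulayLocalRing.supportDim_eq_depth hm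
    (q := ⟨_, hQ'⟩) (by rw [Module.support_eq_zeroLocus, PrimeSpectrum.mem_zeroLocus]
                        intro a ha
                        have : a * 1 = 0 := by simpa using Module.mem_annihilator.1 ha 1
                        rw [mul_one] at this
                        simp [this])
    (IsLocalRing.le_maximalIdeal hQ'.ne_top)
  refine le_antisymm hQP fun a ha => ?_
  have : algebraMap B (Localization.AtPrime P) a ∈ Q.map (algebraMap B (Localization.AtPrime P)) := by
    rw [show Q.map (algebraMap B (Localization.AtPrime P)) = IsLocalRing.maximalIdeal _ from h]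
    exact (IsLocalization.AtPrime.to_map_mem_maximal_iff _ P a).2 ha
  rwa [← IsLocalization.comap_map_of_isPrime_disjoint P.primeCompl (Localization.AtPrime P)
    (I := Q) inferInstance (Set.disjoint_left.2 fun a ha ha' => ha (hQP ha'))]

/-- The equation of a divisor containing no component is regular on the intersection. -/
theorem regular_mod [IsLocallyNoetherian X]
    (hCM : ∀ x : X, LocCoh.IsCohenMacaulayLocalRing (X.presheaf.stalk x)) (J : X.IdealSheafData)
    (hJD : ∀ z : ↥J.subscheme, ringKrullDim (J.subscheme.presheaf.stalk z) = 0 →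
      J.subschemeι.base z ∉ Set.range ID.subschemeι.base)
    {V : X.affineOpens} {rs : List Γ(X, V.1)} (hrs : RingTheory.Sequence.IsWeaklyRegular Γ(X, V.1) rs)
    (hJ : J.ideal V = Ideal.ofList rs) {a : Γ(X, V.1)} (ha : ID.ideal V = Ideal.span {a})
    (r : Γ(X, V.1)) (hr : a * r ∈ J.ideal V) : r ∈ J.ideal V := by
  haveI := IsLocallyNoetherian.component_noetherian V
  haveI := BlowUpKoszul.isCohenMacaulayRing_sections hCM V
  haveI : LocCoh.IsCohenMacaulayRing (Γ(X, V.1) ⧸ J.ideal V) := by
    rw [hJ]; exact BlowUpKoszul.isCohenMacaulayRing_quotient_ofList rs hrs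
  by_contra hne
  set B := Γ(X, V.1) ⧸ J.ideal V
  have hzd : Ideal.Quotient.mk (J.ideal V) a ∈ { b : B | ∃ c : B, c ≠ 0 ∧ b • c = 0 } :=
    ⟨Ideal.Quotient.mk _ r, fun h => hne (Ideal.Quotient.eq_zero_iff_mem.1 h),
      (map_mul (Ideal.Quotient.mk (J.ideal V)) a r).symm.trans (Ideal.Quotient.eq_zero_iff_mem.2 hr)⟩
  rw [← biUnion_associatedPrimes_eq_zero_divisors B B] at hzd
  obtain ⟨P, hP, haP⟩ := Set.mem_iUnion₂.1 hzd
  haveI := IsAssociatedPrime.isPrime hP
  let P' : PrimeSpectrum Γ(X, V.1) := ⟨P.comap (Ideal.Quotient.mk (J.ideal V)), inferInstance⟩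
  have hJP : J.ideal V ≤ P'.asIdeal := fun b hb => by
    show Ideal.Quotient.mk _ b ∈ P
    rw [Ideal.Quotient.eq_zero_iff_mem.2 hb]; exact P.zero_mem
  have hmem : V.2.fromSpec P' ∈ V.1 := by
    rw [← SetLike.mem_coe, ← V.2.range_fromSpec]; exact ⟨P', rfl⟩
  have hsupp : ∀ (K : X.IdealSheafData) (Q : PrimeSpectrum Γ(X, V.1)), V.2.fromSpec Q ∈ K.support ↔
      K.ideal V ≤ Q.asIdeal := fun K Q => by
    have hmemQ : V.2.fromSpec Q ∈ V.1 := by
      rw [← SetLike.mem_coe, ← V.2.range_fromSpec]; exact ⟨Q, rfl⟩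
    rw [Scheme.IdealSheafData.mem_support_iff_of_mem hmemQ, Scheme.mem_zeroLocus_iff]
    refine forall₂_congr fun b _ => ?_
    show ¬ Q ∈ V.2.fromSpec ⁻¹ᵁ X.basicOpen b ↔ _
    rw [V.2.fromSpec_preimage_basicOpen, PrimeSpectrum.mem_basicOpen, not_not]
  have hz : V.2.fromSpec P' ∈ Set.range J.subschemeι := by
    rw [J.range_subschemeι]; exact (hsupp J P').2 hJP
  obtain ⟨z, hz⟩ := hz
  refine hJD z ?_ ?_
  · rw [ringKrullDim_stalk_eq_coheight, ← WithBot.coe_zero, WithBot.coe_inj, Order.coheight_eq_zero]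
    intro z' hz'
    have hspec : z' ⤳ z := hz'
    have h' : J.subschemeι z' ⤳ V.2.fromSpec P' := hz ▸ hspec.map J.subschemeι.continuous
    have hmem' : J.subschemeι z' ∈ V.1 := h'.mem_open V.1.isOpen hmem
    rw [← SetLike.mem_coe, ← V.2.range_fromSpec] at hmem'
    obtain ⟨Q, hQ⟩ := hmem'
    have hQP : Q.asIdeal ≤ P'.asIdeal := by
      rw [← hQ] at h'
      exact (PrimeSpectrum.le_iff_specializes Q P').2 (V.2.fromSpec.isOpenEmbedding.isInducing.specializes_iff.1 h')
    have hJQ : J.ideal V ≤ Q.asIdeal := (hsupp J Q).1 (by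
      rw [hQ, ← SetLike.mem_coe, ← J.range_subschemeι]; exact ⟨z', rfl⟩)
    haveI : (Q.asIdeal.map (Ideal.Quotient.mk (J.ideal V))).IsPrime :=
      Ideal.map_isPrime_of_surjective Ideal.Quotient.mk_surjective (by rwa [Ideal.mk_ker])
    have hle : Q.asIdeal.map (Ideal.Quotient.mk (J.ideal V)) ≤ P := Ideal.map_le_iff_le_comap.2 hQP
    have heq := eq_of_le_of_associated hP hle
    have hQ' : Q = P' := PrimeSpectrum.ext (by
      show _ = P.comap _
      rw [← heq, Ideal.comap_map_of_surjective _ Ideal.Quotient.mk_surjective, ← RingHom.ker_eq_comap_bot,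
        Ideal.mk_ker, sup_eq_left.2 hJQ])
    have : z' = z := J.subschemeι.isEmbedding.injective (by rw [hz, ← hQ, hQ'])
    exact this ▸ le_rfl
  · show J.subschemeι z ∈ _
    rw [hz, ID.range_subschemeι]
    refine (hsupp ID P').2 ?_
    rw [ha, Ideal.span_le, Set.singleton_subset_iff]
    exact haP

/-- The regular immersion as a regular ideal. -/
theorem isRegularIdeal_of_immersion (J : X.IdealSheafData)
    (h : RegImm.IsRegularImmersion RegImm.Kind.regular J.subschemeι) :
    RegImm.IsRegularIdeal RegImm.Kind.regular J := fun x hx => by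
  rw [← SetLike.mem_coe, ← J.range_subschemeι] at hx
  obtain ⟨z, rfl⟩ := hx
  obtain ⟨U, hzU, -, rs, hrs, hker⟩ := h.2 z
  exact ⟨U, hzU, rs, hrs, (J.ker_subschemeι_app U).symm.trans hker⟩

theorem isSMulRegular_homology [IsLocallyNoetherian X]
    (hCM : ∀ x : X, LocCoh.IsCohenMacaulayLocalRing (X.presheaf.stalk x))
    (hY : ∀ i, BlowUp.IsEffCartierIdeal (IY i)) (hD : BlowUp.IsEffCartierIdeal ID)
    (hZ : RegImm.IsRegularImmersion RegImm.Kind.regular (⨆ i, IY i).subschemeι)
    (hZD : ∀ z : ↥(⨆ i, IY i).subscheme, ringKrullDim ((⨆ i, IY i).subscheme.presheaf.stalk z) = 0 →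
      (⨆ i, IY i).subschemeι.base z ∉ Set.range ID.subschemeι.base)
    (C : KoszSh.Cx (∐ fun i => ClSub.idealMod (IY i)) (Limits.Sigma.desc fun i => ClSub.idealModι (IY i)))
    (q : ℕ) (U : X.affineOpens) (x : Γ(X, U.1)) (hxD : ID.ideal U = Ideal.span {x}) :
    IsSMulRegular Γ(C.K.homology q, U.1) x := by
  set J := ⨆ i, IY i with hJdef
  suffices key : ∀ h : Γ(C.K.homology q, U.1), x • h = 0 → h = 0 from fun h₁ h₂ he =>
    sub_eq_zero.1 (key (h₁ - h₂) ((smul_sub x h₁ h₂).trans (sub_eq_zero.2 he)))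
  intro h hxh
  refine sec_ext fun y hy => ?_
  obtain ⟨W₁, hW₁, hyW₁, z, hz⟩ := CAlgH3.EN.exists_local_preimage (C.K.homologyπ q) hy h
  have hprev : (ComplexShape.down ℕ).prev q = q + 1 := ChainComplex.prev ℕ q
  have hexC := ShortComplex.exact_of_g_is_cokernel (ShortComplex.mk _ _ (C.K.toCycles_comp_homologyπ (q + 1) q))
    (C.K.homologyIsCokernel (q + 1) q hprev)
  have hπ : (C.K.homologyπ q).app W₁ (res hW₁ x • z) = 0 := by
    rw [Scheme.Modules.Hom.app_smul, hz, ← resM_smul, hxh, map_zero]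
  obtain ⟨W₂, hW₂, hyW₂, w, hw⟩ := exists_preimage _ _ _ hexC _ hπ hyW₁
  obtain ⟨U₀, rs₀, hyU₀, hrs₀, hid₀⟩ := BlowUpKoszul.exists_regular_gens (isRegularIdeal_of_immersion J hZ) y
  obtain ⟨V₀, hyV₀, hV₀, ⟨c₀⟩⟩ := exists_chart IY ID hY hD (W₂ ⊓ U₀.1) y ⟨hyW₂, hyU₀⟩
  obtain ⟨g₀, hg₀, hyg⟩ := U₀.2.exists_basicOpen_le (V := V₀.1) ⟨y, hyV₀⟩ hyU₀
  let V : X.affineOpens := ⟨X.basicOpen g₀, U₀.2.basicOpen g₀⟩
  let c := c₀.restrict V hg₀
  have hVW₂ : V.1 ≤ W₂ := hg₀.trans (hV₀.trans inf_le_left)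
  have hVU : V.1 ≤ U.1 := hVW₂.trans (hW₂.trans hW₁)
  letI := (X.presheaf.map (homOfLE (X.basicOpen_le g₀)).op).hom.toAlgebra
  haveI := U₀.2.isLocalization_basicOpen g₀
  haveI : Module.Flat Γ(X, U₀.1) Γ(X, X.basicOpen g₀) := IsLocalization.flat _ (Submonoid.powers g₀)
  let rs : List Γ(X, V.1) := rs₀.map (algebraMap Γ(X, U₀.1) Γ(X, X.basicOpen g₀))
  have hrs : RingTheory.Sequence.IsWeaklyRegular Γ(X, V.1) rs := hrs₀.of_flat (S := Γ(X, X.basicOpen g₀))
  have hid : J.ideal V = Ideal.ofList rs := by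
    rw [← J.map_ideal (U := V) (V := U₀) (X.basicOpen_le g₀), hid₀, Ideal.map_ofList]
    rfl
  have haD : ID.ideal V = Ideal.span {res hVU x} := by
    rw [← ID.map_ideal (U := V) (V := U) hVU, hxD, Ideal.map_span, Set.image_singleton]
    rfl
  let b := sigmaBasis (L := fun i => ClSub.idealMod (IY i)) c.kI c.genI
  let f : Fin n → Γ(X, V.1) := fun i =>
    KoszSh.secForm (Limits.Sigma.desc fun i => ClSub.idealModι (IY i)) V.1 (b i)
  have hf : ∀ i, f i = ival (IY i) V.1 (c.kI i) := fun i => by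
    show (Limits.Sigma.desc fun i => ClSub.idealModι (IY i)).app V.1 (b i) = _
    rw [sigmaBasis_apply, ← app_comp_apply, Limits.Sigma.ι_desc]
    rfl
  have hg : RingTheory.Sequence.IsWeaklyRegular Γ(X, V.1) (List.ofFn fun i => rs.get i) := by
    rw [List.ofFn_get]; exact hrs
  have hgJ : Ideal.span (Set.range fun i => rs.get i) = J.ideal V := by
    rw [hid, Ideal.ofList, Set.range_list_get]
  have hfJ : Ideal.span (Set.range f) = J.ideal V := by
    rw [Ideal.span_range_eq_iSup, hJdef, Scheme.IdealSheafData.ideal_iSup, iSup_apply]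
    exact iSup_congr fun i => by rw [hf]; exact (ideal_eq_span (IY i) (c.genI i)).symm
  have htf := torsionFree_of_span_eq (x := res hVU x) (f := f) hg (hfJ.trans hgJ.symm) (fun r hr => by
    rw [hgJ] at hr ⊢
    exact regular_mod hCM J hZD hrs hid haD r hr)
  let zV : Γ(C.K.cycles q, V.1) := resM _ (hVW₂.trans hW₂) z
  have hwz : (C.K.d (q + 1) q).app V.1 (resM _ hVW₂ w) = res hVU x • (C.K.iCycles q).app V.1 zV := by
    rw [← HomologicalComplex.toCycles_i, app_comp_apply, app_resM, hw, resM_smul, resM_smul,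
      Scheme.Modules.Hom.app_smul, resM_resM]
    refine congrArg (· • _) ?_
    rw [PicLib.res_res, PicLib.res_res]
  let zK := locEquiv C b q ((C.K.iCycles q).app V.1 zV)
  obtain ⟨u, hu, hDu⟩ := htf q zK.1 (locEquiv C b (q + 1) (resM _ hVW₂ w)).1 zK.2
    (locEquiv C b (q + 1) (resM _ hVW₂ w)).2
    (by
      rcases q with _ | p
      · obtain ⟨r, hr⟩ := Disc12.Koszul.e0_surjective zK
        rw [← hr]
        exact Disc12.Koszul.D_algebraMap _ r
      · have h0 : dHom C p V.1 ((C.K.iCycles (p + 1)).app V.1 zV) = 0 := by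
          show (C.K.d (p + 1) p).app V.1 _ = 0
          rw [← app_comp_apply, HomologicalComplex.iCycles_d]; rfl
        have := dHom_locEquiv C b p ((C.K.iCycles (p + 1)).app V.1 zV)
        rw [h0, map_zero] at this
        exact congrArg Subtype.val this.symm)
    (by
      refine (congrArg Subtype.val (dHom_locEquiv C b q (resM _ hVW₂ w))).symm.trans ?_
      show (locEquiv C b q ((C.K.d (q + 1) q).app V.1 (resM _ hVW₂ w))).1 = _
      rw [hwz, map_smul]
      rfl)
  have hb : zV = (C.K.toCycles (q + 1) q).app V.1 ((locEquiv C b (q + 1)).symm ⟨u, hu⟩) := by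
    refine app_injective_of_mono (C.K.iCycles q) V.1 ((locEquiv C b q).injective (Subtype.ext ?_))
    rw [← app_comp_apply, HomologicalComplex.toCycles_i]
    refine Eq.trans ?_ (congrArg Subtype.val (dHom_locEquiv C b q _)).symm
    rw [LinearEquiv.apply_symm_apply, Disc12.Koszul.coe_d]
    exact hDu.symm
  refine ⟨V.1, hVU, hyg, ?_⟩
  have e : resM (C.K.homology q) hVU h = (C.K.homologyπ q).app V.1 zV := by
    show _ = (C.K.homologyπ q).app V.1 (resM _ _ z)
    rw [app_resM, hz, resM_resM]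
  rw [e, map_zero, hb, ← app_comp_apply, HomologicalComplex.toCycles_comp_homologyπ]
  rfl

end Groth.Agent.InjMod14.Kosz
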