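import Groth.Agent.InjMod14.Kosz.TwistedChart

/-!
# Homology of Koszul complexes of twisted divisors

`nonempty_twisted_homology_iso`: if the equation of `D` is regular on `H_q` then
`H_q(Y_1+D, …, Y_n+D) ≅ (Z_q|_D ×_{H_q|_D} H_q) ⊗ O(-qD)`.
-/

set_option autoImplicit false
set_option backward.isDefEq.respectTransparency false
set_option backward.isDefEq.respectTransparency.types false

universe u

open CategoryTheory CategoryTheory.Limits AlgebraicGeometry Opposite TopologicalSpace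
open Groth.Agent Groth.Agent.Coherent Groth.Agent.PicLib Groth.Agent.AmpleLib

namespace Groth.Agent.InjMod14.Kosz

variable {X : Scheme.{u}} {n : ℕ}

theorem exists_cycle (K : ChainComplex X.Modules ℕ) (q : ℕ) {U : X.Opens} (z : Γ(K.X q, U))
    (hz : (K.d q ((ComplexShape.down ℕ).next q)).app U z = 0) : ∃ c, (K.iCycles q).app U c = z := by
  obtain ⟨t, ht⟩ := kernel_sections_exact (K.d q ((ComplexShape.down ℕ).next q)) z hz
  refine ⟨(K.liftCycles (kernel.ι (K.d q ((ComplexShape.down ℕ).next q))) _ rfl (kernel.condition _)).app U t, ?_⟩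
  rw [← app_comp_apply, HomologicalComplex.liftCycles_i]
  exact ht

/-- Sections of a twist by a power in a generator. -/
theorem exists_tmul_powSec {L M : X.Modules} {V : X.Opens} {k : Γ(L, V)} (hk : IsGen L V k) (q : ℕ)
    (s : Γ(CohB1.tensorMod M (CohB1.tensorPow L q), V)) : ∃ m, s = tmul m (powSec k q) := by
  obtain ⟨m, hm⟩ := (bijective_tmul_powSec (M := M) hk q V le_rfl).2 s
  exact ⟨m, by simpa only [resM_self] using hm.symm⟩

theorem tmul_powSec_eq_zero {L M : X.Modules} {V : X.Opens} {k : Γ(L, V)} (hk : IsGen L V k) (q : ℕ)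
    {m : Γ(M, V)} (h : tmul m (powSec k q) = 0) : m = 0 := by
  refine (bijective_tmul_powSec (M := M) hk q V le_rfl).1 ?_
  simp only [resM_self]
  exact h.trans (tmul_zero_left _).symm

variable {IY : Fin n → X.IdealSheafData} {ID : X.IdealSheafData}
variable (C : KoszSh.Cx (∐ fun i => ClSub.idealMod (IY i)) (Limits.Sigma.desc fun i => ClSub.idealModι (IY i)))
  (C' : KoszSh.Cx (∐ fun i => ClSub.idealMod (IY i * ID)) (Limits.Sigma.desc fun i => ClSub.idealModι (IY i * ID)))

/-- The facts on a chart about the map on cycles. -/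
theorem chart_cycles (φ : C'.K ⟶ C.K)
    (hφ : ∀ (p : ℕ) (U : X.affineOpens) (e : Fin p → Γ(∐ fun i => ClSub.idealMod (IY i * ID), U.1)),
      (φ.f p).app U.1 ((C'.loc p U).symm (exteriorPower.ιMulti _ p e)) =
        (C.loc p U).symm (exteriorPower.ιMulti _ p (fun j => (twMap IY ID).app U.1 (e j))))
    (q : ℕ) {V : X.affineOpens} (c : Chart IY ID V) :
    Function.Injective ((HomologicalComplex.cyclesMap φ q).app V.1) ∧
    (∀ z : Γ(C.K.cycles q, V.1), ∃ z', (HomologicalComplex.cyclesMap φ q).app V.1 z' = c.eqn ^ q • z) ∧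
    (∀ w', ∃ w, (HomologicalComplex.cyclesMap φ q).app V.1 ((C'.K.toCycles (q + 1) q).app V.1 w') =
      c.eqn ^ q • c.eqn • (C.K.toCycles (q + 1) q).app V.1 w) ∧
    ∀ w, ∃ w', (HomologicalComplex.cyclesMap φ q).app V.1 ((C'.K.toCycles (q + 1) q).app V.1 w') =
      c.eqn ^ q • c.eqn • (C.K.toCycles (q + 1) q).app V.1 w := by
  obtain ⟨ψ, hψ, hd, hfree⟩ := exists_chart_equiv C C' φ hφ c
  have hi : ∀ z', (C.K.iCycles q).app V.1 ((HomologicalComplex.cyclesMap φ q).app V.1 z') =
      c.eqn ^ q • ψ q ((C'.K.iCycles q).app V.1 z') := fun z' => by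
    rw [← app_comp_apply, HomologicalComplex.cyclesMap_i, app_comp_apply, hψ]
  have hpow : ∀ m (y : Γ(C.K.X q, V.1)), c.eqn ^ m • y = 0 → y = 0 := by
    intro m
    induction m with
    | zero => intro y hy; simpa using hy
    | succ m ih => intro y hy; exact ih y (hfree q _ (by rwa [smul_smul, ← pow_succ']))
  have key : ∀ w', (HomologicalComplex.cyclesMap φ q).app V.1 ((C'.K.toCycles (q + 1) q).app V.1 w') =
      c.eqn ^ q • c.eqn • (C.K.toCycles (q + 1) q).app V.1 (ψ (q + 1) w') := fun w' => by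
    refine app_injective_of_mono (C.K.iCycles q) V.1 ?_
    rw [hi, ← app_comp_apply (C'.K.toCycles (q + 1) q) (C'.K.iCycles q), HomologicalComplex.toCycles_i,
      Scheme.Modules.Hom.app_smul, Scheme.Modules.Hom.app_smul,
      ← app_comp_apply (C.K.toCycles (q + 1) q) (C.K.iCycles q), HomologicalComplex.toCycles_i, hd]
  refine ⟨fun z₁ z₂ h => app_injective_of_mono (C'.K.iCycles q) V.1 ((ψ q).injective ?_), fun z => ?_,
    fun w' => ⟨_, key w'⟩, fun w => ⟨(ψ (q + 1)).symm w, ?_⟩⟩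
  · refine sub_eq_zero.1 (hpow q _ ?_)
    rw [smul_sub, ← hi, ← hi, h, sub_self]
  · obtain ⟨z', hz'⟩ := exists_cycle C'.K q ((ψ q).symm ((C.K.iCycles q).app V.1 z)) ((ψ _).injective (by
      rw [hd, LinearEquiv.apply_symm_apply, ← app_comp_apply, HomologicalComplex.iCycles_d, map_zero]
      exact smul_zero _))
    refine ⟨z', app_injective_of_mono (C.K.iCycles q) V.1 ?_⟩
    rw [hi, hz', LinearEquiv.apply_symm_apply, Scheme.Modules.Hom.app_smul]
  · rw [key, LinearEquiv.apply_symm_apply]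

/-- The restriction to the divisor followed by direct image. -/
noncomputable abbrev resD (ID : X.IdealSheafData) : X.Modules ⥤ X.Modules :=
  Scheme.Modules.pullback ID.subschemeι ⋙ Scheme.Modules.pushforward ID.subschemeι

/-- The unit of the restriction. -/
noncomputable abbrev unitD (ID : X.IdealSheafData) (M : X.Modules) : M ⟶ (resD ID).obj M :=
  (Scheme.Modules.pullbackPushforwardAdjunction ID.subschemeι).unit.app M

theorem nonempty_twisted_homology_iso (hY : ∀ i, BlowUp.IsEffCartierIdeal (IY i))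
    (hD : BlowUp.IsEffCartierIdeal ID) (q : ℕ)
    (hreg : ∀ (U : X.affineOpens) (x : Γ(X, U.1)), x ∈ nonZeroDivisors Γ(X, U.1) → ID.ideal U = Ideal.span {x} →
      IsSMulRegular Γ(C.K.homology q, U.1) x) :
    Nonempty (C'.K.homology q ≅ CohB1.tensorMod
      (Limits.pullback ((resD ID).map (C.K.homologyπ q)) (unitD ID (C.K.homology q)))
      (CohB1.tensorPow (ClSub.idealMod ID) q)) := by
  obtain ⟨φ, hφ, -⟩ := existsUnique_chainMap C' C (twMap IY ID) (twMap_desc IY ID)
  have hc := fun V (c : Chart IY ID V) => chart_cycles C C' φ hφ q c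
  let f := HomologicalComplex.cyclesMap φ q
  let π := C.K.homologyπ q
  let g := powMul ID (C.K.cycles q) q
  haveI : Mono f := mono_of_affine_nbhds f fun W x hx => by
    obtain ⟨V, hxV, hVW, ⟨c⟩⟩ := exists_chart IY ID hY hD W x hx
    exact ⟨V, hxV, hVW, (hc V c).1⟩
  -- the identification of the twisted cycles
  have hg : g ≫ cokernel.π f = 0 := hom_ext_local _ _ fun W x hx => by
    obtain ⟨V, hxV, hVW, ⟨c⟩⟩ := exists_chart IY ID hY hD W x hx
    refine ⟨V, hxV, hVW, fun s => ?_⟩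
    obtain ⟨z, rfl⟩ := exists_tmul_powSec c.gen q s
    obtain ⟨z', hz'⟩ := (hc V c).2.1 z
    have e : g.app V.1 (tmul z (powSec c.k q)) = f.app V.1 z' := (powMul_tmul ID _ q V.1 z c.k).trans hz'.symm
    rw [app_comp_apply, e, ← app_comp_apply, cokernel.condition]
    rfl
  let χ := Abelian.monoLift f g hg
  have hχ : ∀ {V : X.affineOpens} (c : Chart IY ID V) (z : Γ(C.K.cycles q, V.1)),
      f.app V.1 (χ.app V.1 (tmul z (powSec c.k q))) = c.eqn ^ q • z := fun {V} c z => by
    rw [← app_comp_apply, Abelian.monoLift_comp]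
    exact powMul_tmul ID _ q V.1 z c.k
  haveI : IsIso χ := isIso_of_affine_nbhds χ fun W x hx => by
    obtain ⟨V, hxV, hVW, ⟨c⟩⟩ := exists_chart IY ID hY hD W x hx
    refine ⟨V, hxV, hVW, ⟨fun s₁ s₂ h => ?_, fun z' => ?_⟩⟩
    · obtain ⟨ψ, hψ, -, hfree⟩ := exists_chart_equiv C C' φ hφ c
      obtain ⟨z₁, rfl⟩ := exists_tmul_powSec c.gen q s₁
      obtain ⟨z₂, rfl⟩ := exists_tmul_powSec c.gen q s₂
      have h' := congrArg (f.app V.1) h
      rw [hχ, hχ] at h'
      have hz : z₁ = z₂ := by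
        refine app_injective_of_mono (C.K.iCycles q) V.1 (sub_eq_zero.1 ?_)
        have : ∀ m (y : Γ(C.K.X q, V.1)), c.eqn ^ m • y = 0 → y = 0 := by
          intro m
          induction m with
          | zero => intro y hy; simpa using hy
          | succ m ih => intro y hy; exact ih y (hfree q _ (by rwa [smul_smul, ← pow_succ']))
        refine this q _ ?_
        rw [smul_sub, ← Scheme.Modules.Hom.app_smul, ← Scheme.Modules.Hom.app_smul, h', sub_self]
      rw [hz]
    · obtain ⟨ψ, hψ, hd, hfree⟩ := exists_chart_equiv C C' φ hφ c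
      obtain ⟨z, hz⟩ := exists_cycle C.K q (ψ q ((C'.K.iCycles q).app V.1 z')) (by
        have h0 : (C'.K.d q ((ComplexShape.down ℕ).next q)).app V.1 ((C'.K.iCycles q).app V.1 z') = 0 := by
          rw [← app_comp_apply, HomologicalComplex.iCycles_d]; rfl
        have h1 := hd q ((ComplexShape.down ℕ).next q) ((C'.K.iCycles q).app V.1 z')
        rw [h0, map_zero] at h1
        exact hfree _ _ h1.symm)
      refine ⟨tmul z (powSec c.k q), (hc V c).1 ?_⟩
      refine (hχ c z).trans (app_injective_of_mono (C.K.iCycles q) V.1 ?_)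
      rw [Scheme.Modules.Hom.app_smul, hz, ← app_comp_apply f (C.K.iCycles q), HomologicalComplex.cyclesMap_i,
        app_comp_apply, hψ]
  -- the map to the fibre product
  let ρ : C.K.cycles q ⟶ Limits.pullback ((resD ID).map π) (unitD ID (C.K.homology q)) :=
    pullback.lift (unitD ID (C.K.cycles q)) π
      ((Scheme.Modules.pullbackPushforwardAdjunction ID.subschemeι).unit.naturality π).symm
  let T := KoszTw.tensorMap ρ (𝟙 (CohB1.tensorPow (ClSub.idealMod ID) q))
  let ξ := inv χ ≫ T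
  have hξ : ∀ {V : X.affineOpens} (c : Chart IY ID V) (z' : Γ(C'.K.cycles q, V.1))
      (z : Γ(C.K.cycles q, V.1)), f.app V.1 z' = c.eqn ^ q • z →
      ξ.app V.1 z' = tmul (ρ.app V.1 z) (powSec c.k q) := fun {V} c z' z h => by
    have e : z' = χ.app V.1 (tmul z (powSec c.k q)) := (hc V c).1 (h.trans (hχ c z).symm)
    rw [e, ← app_comp_apply, IsIso.hom_inv_id_assoc]
    exact KoszTw.tensorMap_tmul _ _ _ _ _
  have hρ₀ : ∀ {V : X.affineOpens} (c : Chart IY ID V) (z : Γ(C.K.cycles q, V.1)),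
      π.app V.1 (c.eqn • z) = 0 → ρ.app V.1 (c.eqn • z) = 0 := fun {V} c z hz => by
    refine pullback_sections_ext _ _ _ _ ?_ ?_ <;> rw [map_zero, ← app_comp_apply]
    · rw [pullback.lift_fst]; exact clUnit_smul_zero ID _ V c.eqn_mem z
    · rw [pullback.lift_snd]; exact hz
  have w : C'.K.toCycles (q + 1) q ≫ ξ = 0 := hom_ext_local _ _ fun W x hx => by
    obtain ⟨V, hxV, hVW, ⟨c⟩⟩ := exists_chart IY ID hY hD W x hx
    refine ⟨V, hxV, hVW, fun w' => ?_⟩
    obtain ⟨w, hw⟩ := (hc V c).2.2.1 w'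
    rw [app_comp_apply, hξ c _ _ hw, hρ₀ c _ (by
      rw [Scheme.Modules.Hom.app_smul, ← app_comp_apply, HomologicalComplex.toCycles_comp_homologyπ]
      exact smul_zero _), tmul_zero_left]
    rfl
  let S := ShortComplex.mk (C'.K.toCycles (q + 1) q) ξ w
  have hprev : (ComplexShape.down ℕ).prev q = q + 1 := ChainComplex.prev ℕ q
  have hexC := ShortComplex.exact_of_g_is_cokernel (ShortComplex.mk _ _ (C.K.toCycles_comp_homologyπ (q + 1) q))
    (C.K.homologyIsCokernel (q + 1) q hprev)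
  have hS : S.Exact := CechRes.exact_of_local_sections S fun W z' hz' x hx => by
    obtain ⟨V, hxV, hVW, ⟨c⟩⟩ := exists_chart IY ID hY hD W x hx
    obtain ⟨s, hs⟩ : ∃ s, χ.app V.1 s = resM (C'.K.cycles q) hVW z' :=
      ⟨(inv χ).app V.1 (resM _ hVW z'), by rw [← app_comp_apply, IsIso.inv_hom_id]; rfl⟩
    obtain ⟨z, rfl⟩ := exists_tmul_powSec c.gen q s
    have hfz : f.app V.1 (resM (C'.K.cycles q) hVW z') = c.eqn ^ q • z := hs ▸ hχ c z
    have hρz : ρ.app V.1 z = 0 := tmul_powSec_eq_zero c.gen q ((hξ c _ _ hfz).symm.trans (by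
      rw [app_resM]; exact (congrArg _ hz').trans (map_zero _)))
    have hπz : π.app V.1 z = 0 := by
      rw [show π = ρ ≫ pullback.snd _ _ from (pullback.lift_snd _ _ _).symm, app_comp_apply, hρz, map_zero]
    have huz : (unitD ID (C.K.cycles q)).app V.1 z = 0 := by
      rw [show unitD ID (C.K.cycles q) = ρ ≫ pullback.fst _ _ from (pullback.lift_fst _ _ _).symm, app_comp_apply,
        hρz, map_zero]
    obtain ⟨W₁, hW₁, hxW₁, z₁, hz₁⟩ := exists_smul_of_clUnit_eq_zero ID _ z huz c.k c.gen le_rfl hxV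
    obtain ⟨V₁, hV₁, hxV₁, hV₁W⟩ := Opens.isBasis_iff_nbhd.mp X.isBasis_affineOpens hxW₁
    let c₁ := c.restrict ⟨V₁, hV₁⟩ (hV₁W.trans hW₁)
    have hz₁' : c₁.eqn • resM _ hV₁W z₁ = resM _ (hV₁W.trans hW₁) z := by
      have := congrArg (resM (C.K.cycles q) hV₁W) hz₁
      rw [resM_smul, resM_resM] at this
      refine Eq.trans ?_ this
      refine congrArg (· • _) ?_
      exact ((congrArg (ival ID V₁) (resM_resM (ClSub.idealMod ID) hW₁ hV₁W c.k)).symm.trans (ival_resM ID hV₁W _))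
    have hπ₁ : π.app V₁ (resM _ hV₁W z₁) = 0 := by
      refine hreg ⟨V₁, hV₁⟩ c₁.eqn c₁.eqn_mem_nonZeroDivisors c₁.ideal_eq ?_
      show c₁.eqn • _ = c₁.eqn • (0 : Γ(C.K.homology q, V₁))
      rw [smul_zero, ← Scheme.Modules.Hom.app_smul, hz₁', app_resM, hπz, map_zero]
    obtain ⟨W₂, hW₂, hxW₂, w, hw⟩ := exists_preimage _ _ _ hexC (resM _ hV₁W z₁) hπ₁ hxV₁
    obtain ⟨V₂, hV₂, hxV₂, hV₂W⟩ := Opens.isBasis_iff_nbhd.mp X.isBasis_affineOpens hxW₂
    let h₂ : V₂ ≤ V₁ := hV₂W.trans hW₂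
    let c₂ := c₁.restrict ⟨V₂, hV₂⟩ h₂
    obtain ⟨w', hw'⟩ := (hc _ c₂).2.2.2 (resM _ hV₂W w)
    let hV : V₂ ≤ V.1 := h₂.trans (hV₁W.trans hW₁)
    refine ⟨V₂, hV.trans hVW, hxV₂, w', (hc _ c₂).1 ?_⟩
    refine hw'.trans ?_
    show _ = f.app V₂ (resM (C'.K.cycles q) (hV.trans hVW) z')
    refine Eq.trans ?_ (congrArg (f.app V₂) (resM_resM _ hVW hV z'))
    refine Eq.trans ?_ ((app_resM f hV _).trans (congrArg (resM _ hV) hfz)).symm
    rw [resM_smul]
    refine congrArg₂ (fun (r : Γ(X, V₂)) (m : Γ(C.K.cycles q, V₂)) => r • m) ?_ ?_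
    · rw [map_pow]
      refine congrArg (· ^ q) ?_
      exact (congrArg (ival ID V₂) (resM_resM (ClSub.idealMod ID) (hV₁W.trans hW₁) h₂ c.k)).trans (ival_resM ID hV c.k)
    · have e : (C.K.toCycles (q + 1) q).app V₂ (resM _ hV₂W w) = resM _ h₂ (resM _ hV₁W z₁) := by
        rw [app_resM, hw, resM_resM]
      rw [e, ← resM_resM _ (hV₁W.trans hW₁) h₂, ← hz₁', resM_smul]
      refine congrArg (· • _) ?_
      exact ival_resM ID h₂ c₁.k
  haveI hepi : Epi ξ := by
    haveI : Epi T := epi_of_locally_surjective T fun W a x hx => by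
      obtain ⟨V, hxV, hVW, ⟨c⟩⟩ := exists_chart IY ID hY hD W x hx
      obtain ⟨p, hp⟩ := exists_tmul_powSec c.gen q (resM _ hVW a)
      obtain ⟨W₁, hW₁, hxW₁, z, hz⟩ := exists_clUnit_eq ID (C.K.cycles q)
        ((pullback.fst ((resD ID).map π) (unitD ID (C.K.homology q))).app V.1 p) hxV
      replace hz : (unitD ID (C.K.cycles q)).app W₁ z = resM _ hW₁
          ((pullback.fst ((resD ID).map π) (unitD ID (C.K.homology q))).app V.1 p) := hz
      let sh := (pullback.snd ((resD ID).map π) (unitD ID (C.K.homology q))).app V.1 p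
      have hdiff : (unitD ID (C.K.homology q)).app W₁ (resM _ hW₁ sh - π.app W₁ z) = 0 := by
        rw [map_sub, app_resM, ← app_comp_apply π, show π ≫ unitD ID (C.K.homology q) =
          unitD ID (C.K.cycles q) ≫ (resD ID).map π from
            (Scheme.Modules.pullbackPushforwardAdjunction ID.subschemeι).unit.naturality π, app_comp_apply, hz,
          app_resM, ← app_comp_apply, ← app_comp_apply, pullback.condition]
        exact sub_self _
      obtain ⟨W₂, hW₂, hxW₂, m, hm⟩ := exists_smul_of_clUnit_eq_zero ID _ _ hdiff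
        (resM _ hW₁ c.k) (c.gen.restrict hW₁) le_rfl hxW₁
      obtain ⟨W₃, hW₃, hxW₃, w, hw⟩ := CAlgH3.EN.exists_local_preimage π hxW₂ m
      obtain ⟨V₃, hV₃, hxV₃, hV₃W⟩ := Opens.isBasis_iff_nbhd.mp X.isBasis_affineOpens hxW₃
      let h₃ : V₃ ≤ W₁ := hV₃W.trans (hW₃.trans hW₂)
      let hV : V₃ ≤ V.1 := h₃.trans hW₁
      let c₃ := c.restrict ⟨V₃, hV₃⟩ hV
      refine ⟨V₃, hV.trans hVW, hxV₃,
        tmul (resM _ h₃ z + c₃.eqn • resM _ hV₃W w) (powSec c₃.k q), ?_⟩
      refine (KoszTw.tensorMap_tmul _ _ _ _ _).trans ?_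
      rw [← resM_resM _ hVW hV, hp, resM_tmul, resM_powSec]
      refine congrArg (fun m => tmul m (powSec c₃.k q)) ?_
      refine pullback_sections_ext _ _ _ _ ?_ ?_ <;> rw [← app_comp_apply]
      · rw [pullback.lift_fst, map_add, app_resM, hz, resM_resM, app_resM]
        have h0 : (unitD ID (C.K.cycles q)).app V₃ (c₃.eqn • resM _ hV₃W w) = 0 :=
          clUnit_smul_zero ID _ ⟨V₃, hV₃⟩ c₃.eqn_mem _
        rw [h0, add_zero]
      · rw [pullback.lift_snd, map_add, app_resM, Scheme.Modules.Hom.app_smul, app_resM, hw, app_resM]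
        have he : c₃.eqn • resM _ (hV₃W.trans hW₃) m = resM _ hV sh - resM _ h₃ (π.app W₁ z) := by
          have := congrArg (resM (C.K.homology q) (hV₃W.trans hW₃)) hm
          simp only [resM_smul, map_sub, resM_resM] at this
          refine Eq.trans ?_ this
          refine congrArg (fun t : Γ(X, V₃) => t • resM _ (hV₃W.trans hW₃) m) ?_
          exact ((ival_resM ID (hV₃W.trans hW₃) _).symm.trans (congrArg (ival ID V₃)
            ((resM_resM _ _ _ _)))).symm
        rw [resM_resM]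
        refine Eq.trans (congrArg (fun t : Γ(C.K.homology q, V₃) => resM _ h₃ (π.app W₁ z) + t) he) ?_
        exact add_sub_cancel _ _
    infer_instance
  exact ⟨(C'.K.homologyIsCokernel (q + 1) q hprev).coconePointUniqueUpToIso hS.gIsCokernel⟩

end Groth.Agent.InjMod14.Kosz
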