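import Groth.Agent.InjMod14.Kosz.Divisor

/-!
# Koszul complexes of twisted divisors on charts

For effective Cartier divisors `Y_i`, `D` the morphism of Koszul complexes of `⊕ O(-Y_i-D) → ⊕ O(-Y_i)` is,
on an affine open trivialising all of them, multiplication by powers of the equation of `D`.

* `sigmaBasis`: sections of a finite coproduct of invertible modules;
* `Chart`, `exists_chart`, `Chart.restrict`;
* `exists_chart_equiv`: the shape of the chain map and of the differentials on a chart.
-/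

set_option autoImplicit false
set_option backward.isDefEq.respectTransparency false
set_option backward.isDefEq.respectTransparency.types false

universe u

open CategoryTheory CategoryTheory.Limits AlgebraicGeometry Opposite TopologicalSpace exteriorPower
open Groth.Agent Groth.Agent.Coherent Groth.Agent.PicLib Groth.Agent.AmpleLib

namespace Groth.Agent.InjMod14.Kosz

section Ring

variable {R : Type u} [CommRing R] {M N : Type u} [AddCommGroup M] [Module R M] [AddCommGroup N] [Module R N]

/-- The exterior power of a linear equivalence. -/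
noncomputable def extEquiv (h : M ≃ₗ[R] N) (p : ℕ) : ↥(⋀[R]^p M) ≃ₗ[R] ↥(⋀[R]^p N) :=
  LinearEquiv.ofBijective (exteriorPower.map p h.toLinearMap) <| by
    refine Function.bijective_iff_has_inverse.2 ⟨exteriorPower.map p h.symm.toLinearMap, fun x => ?_, fun x => ?_⟩
    · rw [← LinearMap.comp_apply, ← exteriorPower.map_comp]
      simp [exteriorPower.map_id]
    · rw [← LinearMap.comp_apply, ← exteriorPower.map_comp]
      simp [exteriorPower.map_id]

theorem map_smul_map (f : M →ₗ[R] N) (a : R) (p : ℕ) (w : ↥(⋀[R]^p M)) :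
    exteriorPower.map p (a • f) w = a ^ p • exteriorPower.map p f w := by
  have : exteriorPower.map p (a • f) = a ^ p • exteriorPower.map p f :=
    LinearMap.ext_on_range (exteriorPower.ιMulti_span _ _ _) fun v => by
      rw [LinearMap.smul_apply, exteriorPower.map_apply_ιMulti, exteriorPower.map_apply_ιMulti]
      refine ((ιMulti R p).toMultilinearMap.map_smul_univ (fun _ => a) (⇑f ∘ v)).trans ?_
      simp
  exact LinearMap.congr_fun this w

end Ring

variable {X : Scheme.{u}} {n : ℕ}

section Sigma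

variable (L : Fin n → X.Modules)

/-- The projection of a finite coproduct. -/
noncomputable def sigmaProj (j : Fin n) : (∐ L) ⟶ L j :=
  Limits.Sigma.desc fun i => if h : i = j then eqToHom (congrArg L h) else 0

theorem ι_sigmaProj (i j : Fin n) :
    Limits.Sigma.ι L i ≫ sigmaProj L j = if h : i = j then eqToHom (congrArg L h) else 0 :=
  Limits.Sigma.ι_desc _ _

theorem app_sum {A B : X.Modules} (f : Fin n → (A ⟶ B)) (U : X.Opens) (e : Γ(A, U)) :
    (∑ j, f j).app U e = ∑ j, (f j).app U e := by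
  let F : (A ⟶ B) →+ Γ(B, U) :=
    { toFun := fun φ => φ.app U e
      map_zero' := rfl
      map_add' := fun _ _ => rfl }
  exact map_sum F f Finset.univ

theorem sigma_total : (∑ j, sigmaProj L j ≫ Limits.Sigma.ι L j) = 𝟙 (∐ L) := by
  refine Limits.Sigma.hom_ext _ _ fun i => ?_
  rw [Preadditive.comp_sum, Category.comp_id, Finset.sum_eq_single i]
  · rw [← Category.assoc, ι_sigmaProj, dif_pos rfl, eqToHom_refl, Category.id_comp]
  · intro j _ hj
    rw [← Category.assoc, ι_sigmaProj, dif_neg (Ne.symm hj), Limits.zero_comp]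
  · exact fun h => (h (Finset.mem_univ i)).elim

variable {L} {V : X.Opens} (l : ∀ i, Γ(L i, V))

theorem linearIndependent_sigma (hl : ∀ i, IsGen (L i) V (l i)) :
    LinearIndependent Γ(X, V) fun i => (Limits.Sigma.ι L i).app V (l i) := by
  classical
  refine Fintype.linearIndependent_iff.2 fun c hc j => ?_
  have h := congrArg ((sigmaProj L j).app V) hc
  rw [map_sum, map_zero, Finset.sum_eq_single j] at h
  · rw [Scheme.Modules.Hom.app_smul, ← app_comp_apply, ι_sigmaProj, dif_pos rfl, eqToHom_refl] at h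
    refine (hl j V le_rfl).1 ?_
    simp only [resM_self]
    exact h.trans (zero_smul Γ(X, V) (l j)).symm
  · intro i _ hij
    rw [Scheme.Modules.Hom.app_smul, ← app_comp_apply, ι_sigmaProj, dif_neg hij]
    exact smul_zero _
  · exact fun h => (h (Finset.mem_univ j)).elim

theorem span_sigma (hl : ∀ i, IsGen (L i) V (l i)) :
    ⊤ ≤ Submodule.span Γ(X, V) (Set.range fun i => (Limits.Sigma.ι L i).app V (l i)) := by
  intro e _
  have he : (∑ j, sigmaProj L j ≫ Limits.Sigma.ι L j).app V e = e := by rw [sigma_total]; rfl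
  rw [← he, app_sum]
  refine Submodule.sum_mem _ fun j _ => ?_
  obtain ⟨c, hc⟩ := (hl j V le_rfl).2 ((sigmaProj L j).app V e)
  have hc' : c • l j = (sigmaProj L j).app V e := by simpa only [resM_self] using hc
  rw [app_comp_apply, ← hc', Scheme.Modules.Hom.app_smul]
  exact Submodule.smul_mem _ _ (Submodule.subset_span ⟨j, rfl⟩)

/-- Sections of a finite coproduct of modules with generators. -/
noncomputable def sigmaBasis (hl : ∀ i, IsGen (L i) V (l i)) : Module.Basis (Fin n) Γ(X, V) Γ(∐ L, V) :=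
  Module.Basis.mk (linearIndependent_sigma l hl) (span_sigma l hl)

theorem sigmaBasis_apply (hl : ∀ i, IsGen (L i) V (l i)) (i : Fin n) :
    sigmaBasis l hl i = (Limits.Sigma.ι L i).app V (l i) := Module.Basis.mk_apply _ _ _

end Sigma

variable (IY : Fin n → X.IdealSheafData) (ID : X.IdealSheafData)

/-- The inclusion `I J → I` of ideal modules. -/
theorem toSubscheme_mul (I : X.IdealSheafData) :
    ClSub.idealModι (I * ID) ≫ ClSub.toSubscheme I = 0 := by
  refine hom_ext_affine _ _ fun U k => ?_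
  show I.subschemeι.app U.1 (ival (I * ID) U.1 k) = 0
  rw [← RingHom.mem_ker, I.ker_subschemeι_app U]
  exact Ideal.mul_le_left (J := ID.ideal U) (show ival (I * ID) U.1 k ∈ I.ideal U * ID.ideal U from ival_mem _ U k)

/-- The inclusion `I J → I`. -/
noncomputable def mulIncl (I : X.IdealSheafData) : ClSub.idealMod (I * ID) ⟶ ClSub.idealMod I :=
  kernel.lift (ClSub.toSubscheme I) (ClSub.idealModι (I * ID)) (toSubscheme_mul ID I)

theorem mulIncl_ι (I : X.IdealSheafData) : mulIncl ID I ≫ ClSub.idealModι I = ClSub.idealModι (I * ID) :=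
  kernel.lift_ι _ _ _

/-- The morphism `⊕ O(-Y_i-D) → ⊕ O(-Y_i)`. -/
noncomputable def twMap : (∐ fun i => ClSub.idealMod (IY i * ID)) ⟶ (∐ fun i => ClSub.idealMod (IY i)) :=
  Limits.Sigma.map fun i => mulIncl ID (IY i)

theorem twMap_desc : twMap IY ID ≫ Limits.Sigma.desc (fun i => ClSub.idealModι (IY i)) =
    Limits.Sigma.desc fun i => ClSub.idealModι (IY i * ID) := by
  refine Limits.Sigma.hom_ext _ _ fun i => ?_
  rw [← Category.assoc, twMap, Limits.Sigma.ι_map, Category.assoc, Limits.Sigma.ι_desc, Limits.Sigma.ι_desc,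
    mulIncl_ι]

/-- An affine open with compatible generators. -/
structure Chart (V : X.affineOpens) where
  k : Γ(ClSub.idealMod ID, V.1)
  gen : IsGen (ClSub.idealMod ID) V.1 k
  reg : IsLeftRegular (ival ID V.1 k)
  kI : ∀ i, Γ(ClSub.idealMod (IY i), V.1)
  genI : ∀ i, IsGen (ClSub.idealMod (IY i)) V.1 (kI i)
  kT : ∀ i, Γ(ClSub.idealMod (IY i * ID), V.1)
  genT : ∀ i, IsGen (ClSub.idealMod (IY i * ID)) V.1 (kT i)
  rel : ∀ i, (mulIncl ID (IY i)).app V.1 (kT i) = ival ID V.1 k • kI i

variable {IY ID}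

/-- The equation of `D` on a chart. -/
noncomputable def Chart.eqn {V : X.affineOpens} (c : Chart IY ID V) : Γ(X, V.1) := ival ID V.1 c.k

theorem Chart.eqn_mem {V : X.affineOpens} (c : Chart IY ID V) : c.eqn ∈ ID.ideal V := ival_mem ID V c.k

theorem Chart.eqn_mem_nonZeroDivisors {V : X.affineOpens} (c : Chart IY ID V) :
    c.eqn ∈ nonZeroDivisors Γ(X, V.1) :=
  mem_nonZeroDivisors_iff.2 ⟨fun z hz => c.reg (hz.trans (mul_zero _).symm),
    fun z hz => c.reg (((mul_comm _ _).trans hz).trans (mul_zero _).symm)⟩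

theorem ideal_eq_span (J : X.IdealSheafData) {V : X.affineOpens} {k : Γ(ClSub.idealMod J, V.1)}
    (hk : IsGen (ClSub.idealMod J) V.1 k) : J.ideal V = Ideal.span {ival J V.1 k} := by
  refine le_antisymm (fun a ha => ?_) (Ideal.span_le.2 (Set.singleton_subset_iff.2 (ival_mem J V k)))
  obtain ⟨k', rfl⟩ := exists_ival J V ha
  obtain ⟨r, hr⟩ := (hk V.1 le_rfl).2 k'
  have hr' : r • k = k' := by simpa only [resM_self] using hr
  refine Ideal.mem_span_singleton'.2 ⟨r, ?_⟩
  rw [← hr']
  exact (Scheme.Modules.Hom.app_smul (ClSub.idealModι J) r k).symm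

theorem ival_resM (J : X.IdealSheafData) {U V : X.Opens} (h : V ≤ U) (k : Γ(ClSub.idealMod J, U)) :
    ival J V (resM _ h k) = res h (ival J U k) :=
  app_resM (ClSub.idealModι J) h k

theorem Chart.ideal_eq {V : X.affineOpens} (c : Chart IY ID V) : ID.ideal V = Ideal.span {c.eqn} :=
  ideal_eq_span ID c.gen

/-- A chart restricts. -/
noncomputable def Chart.restrict {V : X.affineOpens} (c : Chart IY ID V) (V' : X.affineOpens) (h : V'.1 ≤ V.1) :
    Chart IY ID V' where
  k := resM _ h c.k
  gen := c.gen.restrict h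
  reg := by rw [ival_resM]; exact FlatMor12.IdealModGen.isLeftRegular_res V.2 c.reg h
  kI i := resM _ h (c.kI i)
  genI i := (c.genI i).restrict h
  kT i := resM _ h (c.kT i)
  genT i := (c.genT i).restrict h
  rel i := by
    rw [app_resM, c.rel, resM_smul, ival_resM]

variable (IY ID)

theorem exists_gen_regular (J : X.IdealSheafData) (hJ : BlowUp.IsEffCartierIdeal J) (x : X) :
    ∃ U : X.Opens, x ∈ U ∧ IsAffineOpen U ∧ ∃ k : Γ(ClSub.idealMod J, U),
      IsGen (ClSub.idealMod J) U k ∧ IsLeftRegular (ival J U k) := by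
  obtain ⟨U, hxU, f, hf, hspan⟩ := hJ x
  obtain ⟨k, hk⟩ := exists_ival J U (hspan.ge (Ideal.mem_span_singleton_self f))
  have hreg : IsLeftRegular f := fun b c (h : f * b = f * c) => sub_eq_zero.1
    ((mem_nonZeroDivisors_iff.1 hf).2 _ (by rw [sub_mul, mul_comm b, mul_comm c, h, sub_self]))
  exact ⟨U.1, hxU, U.2, k, FlatMor12.IdealModGen.bijective_smul_of_affine_gen J U.2 hk hreg hspan, hk ▸ hreg⟩

theorem exists_chart (hY : ∀ i, BlowUp.IsEffCartierIdeal (IY i)) (hD : BlowUp.IsEffCartierIdeal ID)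
    (W : X.Opens) (x : X) (hx : x ∈ W) :
    ∃ V : X.affineOpens, x ∈ V.1 ∧ V.1 ≤ W ∧ Nonempty (Chart IY ID V) := by
  obtain ⟨UD, hxD, hUD, kD, hkD, hregD⟩ := exists_gen_regular ID hD x
  choose U hxU hU kI hkI hregI using fun i => exists_gen_regular (IY i) (hY i) x
  let O : X.Opens := ⟨(⋂ i, (U i : Set X)) ∩ (UD : Set X) ∩ (W : Set X),
    ((isOpen_iInter_of_finite fun i => (U i).2).inter UD.2).inter W.2⟩
  obtain ⟨V, hV, hxV, hVO⟩ := Opens.isBasis_iff_nbhd.mp X.isBasis_affineOpens
    (show x ∈ O from ⟨⟨Set.mem_iInter.2 hxU, hxD⟩, hx⟩)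
  have hVD : V ≤ UD := fun y hy => (hVO hy).1.2
  have hVi : ∀ i, V ≤ U i := fun i y hy => Set.mem_iInter.1 (hVO hy).1.1 i
  let a : Γ(X, V) := ival ID V (resM _ hVD kD)
  have ha : IsLeftRegular a := by
    show IsLeftRegular (ival ID V _)
    rw [ival_resM]; exact FlatMor12.IdealModGen.isLeftRegular_res hUD hregD hVD
  have hf : ∀ i, IsLeftRegular (ival (IY i) V (resM _ (hVi i) (kI i))) := fun i => by
    rw [ival_resM]; exact FlatMor12.IdealModGen.isLeftRegular_res (hU i) (hregI i) (hVi i)
  have hspan : ∀ i, (IY i * ID).ideal ⟨V, hV⟩ = Ideal.span {ival (IY i) V (resM _ (hVi i) (kI i)) * a} := fun i => by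
    show (IY i).ideal ⟨V, hV⟩ * ID.ideal ⟨V, hV⟩ = _
    rw [ideal_eq_span (IY i) (V := ⟨V, hV⟩) ((hkI i).restrict (hVi i)),
      ideal_eq_span ID (V := ⟨V, hV⟩) (hkD.restrict hVD), Ideal.span_singleton_mul_span_singleton]
  choose kT hkT using fun i => exists_ival (IY i * ID) ⟨V, hV⟩ ((hspan i).ge (Ideal.mem_span_singleton_self _))
  refine ⟨⟨V, hV⟩, hxV, fun y hy => (hVO hy).2, ⟨{
    k := resM _ hVD kD
    gen := hkD.restrict hVD
    reg := ha
    kI := fun i => resM _ (hVi i) (kI i)
    genI := fun i => (hkI i).restrict (hVi i)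
    kT := kT
    genT := fun i => FlatMor12.IdealModGen.bijective_smul_of_affine_gen _ hV (hkT i) ((hf i).mul ha) (hspan i)
    rel := fun i => ?_ }⟩⟩
  haveI := mono_idealModι (IY i)
  refine app_injective_of_mono (ClSub.idealModι (IY i)) V ?_
  rw [← app_comp_apply, mulIncl_ι, Scheme.Modules.Hom.app_smul]
  exact (hkT i).trans (mul_comm _ _)

variable {IY ID}
variable (C : KoszSh.Cx (∐ fun i => ClSub.idealMod (IY i)) (Limits.Sigma.desc fun i => ClSub.idealModι (IY i)))
  (C' : KoszSh.Cx (∐ fun i => ClSub.idealMod (IY i * ID)) (Limits.Sigma.desc fun i => ClSub.idealModι (IY i * ID)))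

theorem down_cases (i j : ℕ) : i = j + 1 ∨ ¬ (ComplexShape.down ℕ).Rel i j := by
  by_cases h : i = j + 1
  · exact Or.inl h
  · exact Or.inr fun hr => h (ComplexShape.down_Rel ℕ i j ▸ hr : j + 1 = i).symm

/-- On a chart the chain map is a power of the equation, and the differentials differ by the equation. -/
theorem exists_chart_equiv (φ : C'.K ⟶ C.K)
    (hφ : ∀ (p : ℕ) (U : X.affineOpens) (e : Fin p → Γ(∐ fun i => ClSub.idealMod (IY i * ID), U.1)),
      (φ.f p).app U.1 ((C'.loc p U).symm (exteriorPower.ιMulti _ p e)) =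
        (C.loc p U).symm (exteriorPower.ιMulti _ p (fun j => (twMap IY ID).app U.1 (e j))))
    {V : X.affineOpens} (c : Chart IY ID V) :
    ∃ ψ : ∀ p, Γ(C'.K.X p, V.1) ≃ₗ[Γ(X, V.1)] Γ(C.K.X p, V.1),
      (∀ p z, (φ.f p).app V.1 z = c.eqn ^ p • ψ p z) ∧
      (∀ i j z, ψ j ((C'.K.d i j).app V.1 z) = c.eqn • (C.K.d i j).app V.1 (ψ i z)) ∧
      ∀ p (y : Γ(C.K.X p, V.1)), c.eqn • y = 0 → y = 0 := by
  let b := sigmaBasis (L := fun i => ClSub.idealMod (IY i)) c.kI c.genI
  let b' := sigmaBasis (L := fun i => ClSub.idealMod (IY i * ID)) c.kT c.genT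
  let h : Γ(∐ fun i => ClSub.idealMod (IY i * ID), V.1) ≃ₗ[Γ(X, V.1)] Γ(∐ fun i => ClSub.idealMod (IY i), V.1) :=
    b'.equiv b (Equiv.refl _)
  have hg : appLin (twMap IY ID) V.1 = c.eqn • h.toLinearMap := b'.ext fun i => by
    show (twMap IY ID).app V.1 (b' i) = c.eqn • h (b' i)
    rw [Module.Basis.equiv_apply, Equiv.refl_apply, sigmaBasis_apply, sigmaBasis_apply, ← app_comp_apply,
      twMap, Limits.Sigma.ι_map, app_comp_apply, c.rel, Scheme.Modules.Hom.app_smul]
    rfl
  refine ⟨fun p => (C'.loc p V).trans ((extEquiv h p).trans (C.loc p V).symm), fun p z => ?_, fun i j z => ?_,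
    fun p y hy => ?_⟩
  · have e : appLin (φ.f p) V.1 ∘ₗ (C'.loc p V).symm.toLinearMap =
        (C.loc p V).symm.toLinearMap ∘ₗ exteriorPower.map p (appLin (twMap IY ID) V.1) :=
      LinearMap.ext_on_range (exteriorPower.ιMulti_span _ _ _) fun v => by
        show (φ.f p).app V.1 ((C'.loc p V).symm _) = (C.loc p V).symm (exteriorPower.map p _ _)
        rw [hφ, exteriorPower.map_apply_ιMulti]
        rfl
    obtain ⟨w, rfl⟩ := (C'.loc p V).symm.surjective z
    refine (LinearMap.congr_fun e w).trans ?_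
    show (C.loc p V).symm (exteriorPower.map p (appLin (twMap IY ID) V.1) w) = _
    rw [hg, map_smul_map, map_smul, LinearEquiv.trans_apply, LinearEquiv.apply_symm_apply]
    rfl
  · rcases down_cases i j with rfl | hij
    · obtain ⟨w, rfl⟩ := (C'.loc (j + 1) V).symm.surjective z
      rw [rule_dLin]
      simp only [LinearEquiv.trans_apply, LinearEquiv.apply_symm_apply]
      rw [rule_dLin, ← map_smul]
      refine congrArg (C.loc j V).symm ?_
      show exteriorPower.map j h.toLinearMap _ = c.eqn • dLin _ j (exteriorPower.map (j + 1) h.toLinearMap w)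
      have hs : KoszSh.secForm (Limits.Sigma.desc fun i => ClSub.idealModι (IY i * ID)) V.1 =
          c.eqn • (KoszSh.secForm (Limits.Sigma.desc fun i => ClSub.idealModι (IY i)) V.1 ∘ₗ h.toLinearMap) :=
        LinearMap.ext fun m => by
          rw [← secForm_app (twMap IY ID) (twMap_desc IY ID) V.1 m, hg, LinearMap.smul_apply, map_smul]
          rfl
      rw [hs, dLin_smul_form, LinearMap.smul_apply, map_smul]
      exact congrArg _ (map_dLin h.toLinearMap _ _ (fun _ => rfl) j w).symm
    · rw [C'.K.shape i j hij, C.K.shape i j hij]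
      show (C'.loc j V).trans _ 0 = c.eqn • (0 : Γ(C.K.X j, V.1))
      rw [map_zero, smul_zero]
  · refine (C.loc p V).injective ?_
    rw [map_zero]
    refine smul_eq_zero_free b (fun r hr => c.reg (hr.trans (mul_zero _).symm)) p _ ?_
    exact ((map_smul (C.loc p V) _ y).symm.trans (congrArg (C.loc p V) hy)).trans (map_zero _)

end Groth.Agent.InjMod14.Kosz
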